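import Mathlib
import Cfsg.Agent.Lib.Symplectic.Form

/-!
Lib/MinIndexSp/Count: lower bounds for an index by separated elements and by translates of a set,
and the lattice of scalars stabilising an additive subgroup of a finite field.
-/

set_option autoImplicit false

namespace Cfsg.Agent.Lib.MinIndexSp

open Pointwise

/-- Cosets separate the points of a family of elements which the subgroup separates. -/
theorem card_le_index {Γ : Type*} [Group Γ] [Finite Γ] (H : Subgroup Γ) {ι : Type*} (g : ι → Γ)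
    (h : ∀ i j, (g i)⁻¹ * g j ∈ H → i = j) : Nat.card ι ≤ H.index :=
  Nat.card_le_card_of_injective (fun i => (QuotientGroup.mk (g i) : Γ ⧸ H))
    fun i j hij => h i j (QuotientGroup.eq.1 hij)

/-- If each point of `T` lies in `k` distinct translates of `A`, then a subgroup fixing `A` has
index at least `|T| * k / |A|`. -/
theorem card_mul_le_index {G Ω : Type*} [Group G] [Finite G] [MulAction G Ω] [Finite Ω]
    {H : Subgroup G} {A T : Set Ω} (hH : ∀ h ∈ H, h • A = A) {k : ℕ}
    (hT : ∀ t ∈ T, ∃ S : Finset (Set Ω), k ≤ S.card ∧ ∀ B ∈ S, (∃ g : G, g • A = B) ∧ t ∈ B) :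
    T.ncard * k ≤ H.index * A.ncard := by
  classical
  have : Fintype G := Fintype.ofFinite G
  have : Fintype Ω := Fintype.ofFinite Ω
  let O : Finset (Set Ω) := Finset.univ.image fun g : G => g • A
  have hO : O.card ≤ H.index := by
    have h1 : O.card = (MulAction.stabilizer G A).index := by
      rw [MulAction.index_stabilizer, ← Set.ncard_coe_finset]
      congr 1
      ext B
      simp [O, MulAction.orbit]
    rw [h1]
    exact Nat.le_of_dvd (Nat.pos_of_ne_zero Subgroup.index_ne_zero_of_finite)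
      (Subgroup.index_dvd_of_le fun g hg => hH g hg)
  have hA : ∀ B ∈ O, B.ncard ≤ A.ncard := by
    intro B hB
    obtain ⟨g, -, rfl⟩ := Finset.mem_image.1 hB
    exact le_of_eq (by rw [← Set.image_smul, Set.ncard_image_of_injective _ (MulAction.injective g)])
  have key := Finset.card_mul_le_card_mul (fun (t : Ω) (B : Set Ω) => t ∈ B) (s := T.toFinset)
    (t := O) (m := k) (n := A.ncard) (fun t ht => ?_) fun B hB => ?_
  · rw [Set.ncard_eq_toFinset_card' T]
    exact key.trans (Nat.mul_le_mul_right _ hO)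
  · obtain ⟨S, hk, hS⟩ := hT t (Set.mem_toFinset.1 ht)
    refine hk.trans (Finset.card_le_card fun B hB => ?_)
    obtain ⟨⟨g, hg⟩, htB⟩ := hS B hB
    exact (Finset.mem_bipartiteAbove _).2
      ⟨Finset.mem_image.2 ⟨g, Finset.mem_univ _, hg⟩, htB⟩
  · refine le_trans ?_ (hA B hB)
    rw [← Set.ncard_coe_finset]
    exact Set.ncard_le_ncard fun x hx => ((Finset.mem_bipartiteBelow _).1 hx).2

/-- The case of a single translate. -/
theorem card_le_index_mul {G Ω : Type*} [Group G] [Finite G] [MulAction G Ω] [Finite Ω]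
    {H : Subgroup G} {A T : Set Ω} (hH : ∀ h ∈ H, h • A = A)
    (hT : ∀ t ∈ T, ∃ g : G, t ∈ g • A) : T.ncard ≤ H.index * A.ncard := by
  classical
  have h := card_mul_le_index hH (k := 1) (T := T) fun t ht => ?_
  · rwa [mul_one] at h
  obtain ⟨g, hg⟩ := hT t ht
  exact ⟨{g • A}, by simp, fun B hB => by
    rw [Finset.mem_singleton] at hB; subst hB; exact ⟨⟨g, rfl⟩, hg⟩⟩

/-- The case of two translates. -/
theorem two_mul_card_le_index_mul {G Ω : Type*} [Group G] [Finite G] [MulAction G Ω] [Finite Ω]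
    {H : Subgroup G} {A T : Set Ω} (hH : ∀ h ∈ H, h • A = A)
    (hT : ∀ t ∈ T, ∃ g g' : G, t ∈ g • A ∧ t ∈ g' • A ∧ g • A ≠ g' • A) :
    2 * T.ncard ≤ H.index * A.ncard := by
  classical
  have h := card_mul_le_index hH (k := 2) (T := T) fun t ht => ?_
  · rwa [mul_comm] at h
  obtain ⟨g, g', hg, hg', hne⟩ := hT t ht
  refine ⟨{g • A, g' • A}, by simp [hne], fun B hB => ?_⟩
  simp only [Finset.mem_insert, Finset.mem_singleton] at hB
  rcases hB with rfl | rfl
  exacts [⟨⟨g, rfl⟩, hg⟩, ⟨⟨g', rfl⟩, hg'⟩]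

/-! ### Scalars stabilising an additive subgroup -/

variable {F : Type*} [Field F] [Finite F]

/-- The inverse of an element is one of its powers. -/
theorem inv_eq_pow {x : F} (hx : x ≠ 0) : x⁻¹ = x ^ (Nat.card F - 2) := by
  have : Fintype F := Fintype.ofFinite F
  have h1 := FiniteField.pow_card_sub_one_eq_one x hx
  have h2 : 2 ≤ Fintype.card F := Fintype.one_lt_card
  refine inv_eq_of_mul_eq_one_left ?_
  rw [Nat.card_eq_fintype_card, ← pow_succ,
    show Fintype.card F - 2 + 1 = Fintype.card F - 1 by omega, h1]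

/-- Multiplication by `x ≠ 0` mapping an additive subgroup into itself can be undone. -/
theorem smul_inv_mem {M : Type*} [AddCommGroup M] [Module F M] (A : AddSubgroup M) {x : F}
    (hx : x ≠ 0) (h : ∀ v ∈ A, x • v ∈ A) {v : M} (hv : x • v ∈ A) : v ∈ A := by
  have hp : ∀ k : ℕ, ∀ w ∈ A, x ^ k • w ∈ A := by
    intro k
    induction k with
    | zero => intro w hw; simpa using hw
    | succ k ih => intro w hw; rw [pow_succ, mul_smul]; exact ih _ (h w hw)
  have h1 := hp (Nat.card F - 2) _ hv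
  rwa [← inv_eq_pow hx, inv_smul_smul₀ hx] at h1

theorem smul_nat_mem {M : Type*} [AddCommGroup M] [Module F M] (A : AddSubgroup M) (k : ℕ)
    {v : M} (hv : v ∈ A) : (k : F) • v ∈ A := by
  rw [Nat.cast_smul_eq_nsmul]
  exact A.nsmul_mem hv k

/-- Halving in an additive subgroup, odd characteristic. -/
theorem half_mem {M : Type*} [AddCommGroup M] [Module F M] (A : AddSubgroup M) (h2 : (2 : F) ≠ 0)
    {v : M} (hv : (2 : F) • v ∈ A) : v ∈ A :=
  smul_inv_mem A h2 (fun w hw => by exact_mod_cast smul_nat_mem (F := F) A 2 hw) hv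

variable (Z : AddSubgroup F)

/-- The scalars whose square stabilises `Z`. -/
def sqStab : Subgroup Fˣ where
  carrier := {a | ∀ c : F, c ∈ Z ↔ (a : F) ^ 2 * c ∈ Z}
  one_mem' c := by simp
  mul_mem' {a b} ha hb c := by
    rw [hb c, ha ((b : F) ^ 2 * c), Units.val_mul, mul_pow, mul_assoc]
  inv_mem' {a} ha c := by
    rw [ha (((a⁻¹ : Fˣ) : F) ^ 2 * c), ← mul_assoc, ← mul_pow, a.mul_inv, one_pow, one_mul]

/-- The field of scalars mapping `Z` into itself. -/
def multField : Subfield F where
  carrier := {a | ∀ c ∈ Z, a * c ∈ Z}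
  one_mem' c hc := by simpa using hc
  zero_mem' c _ := by simp [Z.zero_mem]
  add_mem' {a b} ha hb c hc := by rw [add_mul]; exact Z.add_mem (ha c hc) (hb c hc)
  neg_mem' {a} ha c hc := by rw [neg_mul]; exact Z.neg_mem (ha c hc)
  mul_mem' {a b} ha hb c hc := by rw [mul_assoc]; exact ha _ (hb c hc)
  inv_mem' a ha c hc := by
    rcases eq_or_ne a 0 with rfl | h0
    · simp [Z.zero_mem]
    refine smul_inv_mem (F := F) Z h0 (fun v hv => ha v hv) ?_
    rwa [smul_eq_mul, ← mul_assoc, mul_inv_cancel₀ h0, one_mul]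

theorem multField_bounds (h0 : Z ≠ ⊥) (h1 : Z ≠ ⊤) :
    2 ≤ Nat.card (multField Z) ∧ Nat.card (multField Z) ^ 2 ≤ Nat.card F ∧
      Nat.card (multField Z) ≤ Z.index := by
  set E := multField Z
  have hne : ∃ x : F, x ∉ E := by
    by_contra hcon
    push Not at hcon
    obtain ⟨z, hz, hz0⟩ := Z.bot_or_exists_ne_zero.resolve_left h0
    refine h1 (eq_top_iff.2 fun x _ => ?_)
    have := hcon (x * z⁻¹) z hz
    rwa [mul_assoc, inv_mul_cancel₀ hz0, mul_one] at this
  let W : Submodule E F :=
    { Z.toAddSubmonoid with smul_mem' := fun a c hc => a.2 c hc }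
  have hE2 : 2 ≤ Nat.card E := Finite.one_lt_card
  have hF : Nat.card F = Nat.card E ^ Module.finrank E F := Module.natCard_eq_pow_finrank
  have hd : 2 ≤ Module.finrank E F := by
    by_contra hcon
    obtain ⟨x, hx⟩ := hne
    have hlt : Nat.card E < Nat.card F :=
      Finite.card_subtype_lt (p := fun y => y ∈ E) hx
    have : Nat.card E ^ Module.finrank E F ≤ Nat.card E ^ 1 := Nat.pow_le_pow_right (by omega) (by omega)
    rw [pow_one] at this
    omega
  refine ⟨hE2, hF ▸ Nat.pow_le_pow_right (by omega) hd, ?_⟩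
  have hW : W < ⊤ := lt_top_iff_ne_top.2 fun h => h1 (by
    ext x; simp only [AddSubgroup.mem_top, iff_true]
    exact (h ▸ Submodule.mem_top : x ∈ W))
  have hlt : Module.finrank E W < Module.finrank E F := Submodule.finrank_lt hW.ne
  have hWc : Nat.card Z = Nat.card E ^ Module.finrank E W := Module.natCard_eq_pow_finrank (V := W)
  have h3 := AddSubgroup.card_mul_index Z
  rw [hWc, hF] at h3
  have h4 : Nat.card E ^ Module.finrank E W * Nat.card E ≤
      Nat.card E ^ Module.finrank E W * Z.index := by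
    rw [h3, ← pow_succ]
    exact Nat.pow_le_pow_right (by omega) hlt
  exact Nat.le_of_mul_le_mul_left h4 (pow_pos (by omega) _)

theorem card_sqStab_le (h0 : Z ≠ ⊥) :
    Nat.card (sqStab Z) ≤ 2 * (Nat.card (multField Z) - 1) ∧
      ((2 : F) = 0 → Nat.card (sqStab Z) ≤ Nat.card (multField Z) - 1) := by
  classical
  let φ : sqStab Z →* (multField Z)ˣ :=
    { toFun := fun a => Units.mk0 ⟨((a : Fˣ) : F) ^ 2, fun c hc => (a.2 c).1 hc⟩
        (fun h => pow_ne_zero 2 (a : Fˣ).ne_zero (congrArg Subtype.val h))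
      map_one' := Units.ext (Subtype.ext (by simp))
      map_mul' := fun a b => Units.ext (Subtype.ext (by simp [mul_pow])) }
  have hcard : Nat.card (multField Z)ˣ = Nat.card (multField Z) - 1 := Nat.card_units _
  have hker : ∀ a ∈ φ.ker, ((a : Fˣ) : F) = 1 ∨ ((a : Fˣ) : F) = -1 := fun a ha => by
    have h := congrArg (fun u : (multField Z)ˣ => ((u : multField Z) : F)) (φ.mem_ker.1 ha)
    exact sq_eq_one_iff.1 (by simpa [φ] using h)
  have hmul : Nat.card (sqStab Z) ≤ Nat.card φ.ker * Nat.card (multField Z)ˣ := by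
    rw [← φ.ker.card_mul_index, Subgroup.index_ker]
    exact Nat.mul_le_mul_left _ (Subgroup.card_le_card_group _)
  refine ⟨?_, fun h2 => ?_⟩
  · rw [← hcard]
    refine hmul.trans (Nat.mul_le_mul_right _ ?_)
    let f : φ.ker → Bool := fun a => decide (((a : sqStab Z) : Fˣ) = 1)
    refine (Nat.card_le_card_of_injective f fun a b hab => ?_).trans (by simp)
    apply Subtype.ext; apply Subtype.ext; apply Units.ext
    simp only [f, decide_eq_decide, Units.ext_iff, Units.val_one] at hab
    rcases hker a a.2 with ha | ha <;> rcases hker b b.2 with hb | hb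
    · rw [ha, hb]
    · rw [ha, hab.1 ha]
    · rw [hab.2 hb, hb]
    · rw [ha, hb]
  · rw [← hcard]
    have hk : Nat.card φ.ker = 1 := Nat.card_eq_one_iff_unique.2
      ⟨⟨fun a b => by
        apply Subtype.ext; apply Subtype.ext; apply Units.ext
        have hneg : (-1 : F) = 1 := by linear_combination -h2
        rcases hker a a.2 with ha | ha <;> rcases hker b b.2 with hb | hb <;>
          simp [ha, hb, hneg]⟩, ⟨1⟩⟩
    rw [hk, one_mul] at hmul
    exact hmul

/-- The orbit of `Z` under square scalars times the index of `Z`. -/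
theorem sqStab_mul_index_ge (h1 : Z ≠ ⊤) (hq : 3 ≤ Nat.card F) :
    Nat.card F + 2 ≤ 2 * ((sqStab Z).index * Z.index) ∧
      ((2 : F) = 0 → Nat.card F ≤ (sqStab Z).index * Z.index ∧
        (Z ≠ ⊥ → Nat.card F + 2 ≤ (sqStab Z).index * Z.index)) := by
  have hpos : 1 ≤ (sqStab Z).index := Nat.pos_of_ne_zero Subgroup.index_ne_zero_of_finite
  rcases eq_or_ne Z ⊥ with h0 | h0
  · have hi : Z.index = Nat.card F := by rw [h0, AddSubgroup.index_bot]
    have h2 : Nat.card F ≤ (sqStab Z).index * Z.index := by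
      rw [hi]; exact Nat.le_mul_of_pos_left _ hpos
    exact ⟨by omega, fun _ => ⟨h2, fun h => absurd h0 h⟩⟩
  obtain ⟨hP, hPP, hPi⟩ := multField_bounds Z h0 h1
  obtain ⟨hs1, hs2⟩ := card_sqStab_le Z h0
  have hcm := (sqStab Z).card_mul_index
  rw [Nat.card_units] at hcm
  set P := Nat.card (multField Z)
  set T := (sqStab Z).index
  set q := Nat.card F
  obtain ⟨r, hr⟩ : ∃ r, P = r + 1 := ⟨P - 1, by omega⟩
  rw [hr, Nat.add_sub_cancel] at hs1 hs2
  rw [hr] at hPi
  have hPq : (r + 1) ^ 2 ≤ q := hr ▸ hPP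
  have key : ∀ k, Nat.card (sqStab Z) ≤ k * r → q + 2 ≤ k * (T * Z.index) := by
    intro k hk
    by_contra hcon
    have ha : q - 1 ≤ k * r * T := hcm ▸ Nat.mul_le_mul_right T hk
    have hb : k * r * T * (r + 1) ≤ (k * (T * Z.index)) * r := by nlinarith
    have hc : (q - 1) * (r + 1) ≤ (q + 1) * r :=
      ((Nat.mul_le_mul_right _ ha).trans hb).trans (Nat.mul_le_mul_right _ (by omega))
    obtain ⟨q', hq'⟩ : ∃ q', q = q' + 1 := ⟨q - 1, by omega⟩
    rw [hq', Nat.add_sub_cancel] at hc
    nlinarith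
  exact ⟨key 2 hs1, fun h => ⟨by have := key 1 (by simpa using hs2 h); omega,
    fun _ => by simpa using key 1 (by simpa using hs2 h)⟩⟩

end Cfsg.Agent.Lib.MinIndexSp
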