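import Mathlib
import Cfsg.Agent.Lib.Symplectic.Form

/-!
Lib/MinIndexSp/Siegel: the unipotent radical of the stabiliser of a point in a symplectic group,
`tA e v c : x ↦ x + B x e • v + (B x v + c * B x e) • e` for `B e v = 0`, and its Levi complement.
-/

set_option autoImplicit false

namespace Cfsg.Agent.Lib.MinIndexSp

open Module Cfsg.Agent.Lib.Symplectic

variable {F : Type*} {V : Type*} [Field F] [AddCommGroup V] [Module F V]
variable {B : V →ₗ[F] V →ₗ[F] F}

/-- The underlying map of a Siegel element. -/
def sMap (B : V →ₗ[F] V →ₗ[F] F) (e v : V) (c : F) : V →ₗ[F] V :=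
  LinearMap.id + (B.flip e).smulRight v + (B.flip v + c • B.flip e).smulRight e

theorem sMap_apply (e v : V) (c : F) (x : V) :
    sMap B e v c x = x + B x e • v + (B x v + c * B x e) • e := rfl

variable (hB : IsSympForm B)
include hB

theorem sMap_comp {e v v' : V} (h : B e v = 0) (h' : B e v' = 0) (c c' : F) (x : V) :
    sMap B e v c (sMap B e v' c' x) = sMap B e (v + v') (c + c' + B v' v) x := by
  have he' : B v' e = 0 := hB.comm_eq_zero.mp h'
  simp only [sMap_apply, map_add, map_smul, LinearMap.add_apply, LinearMap.smul_apply,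
    smul_eq_mul, hB.self, h, he', mul_zero, add_zero]
  module

theorem sMap_comp_neg {e v : V} (h : B e v = 0) (c : F) (x : V) :
    sMap B e v c (sMap B e (-v) (-c) x) = x := by
  rw [sMap_comp hB h (by rw [map_neg, h, neg_zero])]
  simp [sMap_apply, hB.self]

theorem sMap_form {e v : V} (h : B e v = 0) (c : F) (x y : V) :
    B (sMap B e v c x) (sMap B e v c y) = B x y := by
  simp only [sMap_apply, map_add, map_smul, LinearMap.add_apply, LinearMap.smul_apply,
    smul_eq_mul, hB.self, h, hB.comm_eq_zero.mp h, mul_zero, add_zero]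
  rw [hB.swap v y, hB.swap e y]
  ring

open Classical in
/-- The Siegel element; one if `v` is not orthogonal to `e`. -/
noncomputable def tA (e v : V) (c : F) : Isom B :=
  if h : B e v = 0 then
    ⟨LinearEquiv.ofLinearMap (sMap B e v c) (sMap B e (-v) (-c))
      (LinearMap.ext fun x => sMap_comp_neg hB h c x)
      (LinearMap.ext fun x => by
        simpa using sMap_comp_neg hB (show B e (-v) = 0 by rw [map_neg, h, neg_zero]) (-c) x),
      fun x y => sMap_form hB h c x y⟩
  else 1

theorem tA_smul {e v : V} (h : B e v = 0) (c : F) (x : V) :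
    tA hB e v c • x = x + B x e • v + (B x v + c * B x e) • e := by
  rw [tA, dif_pos h]; rfl

theorem tA_perp {e v x : V} (h : B e v = 0) (hx : B x e = 0) (c : F) :
    tA hB e v c • x = x + B x v • e := by
  rw [tA_smul hB h, hx, mul_zero, add_zero, zero_smul, add_zero]

theorem tA_self {e v : V} (h : B e v = 0) (c : F) : tA hB e v c • e = e := by
  rw [tA_perp hB h (hB.self e), h, zero_smul, add_zero]

theorem tA_mul {e v v' : V} (h : B e v = 0) (h' : B e v' = 0) (c c' : F) :
    tA hB e v c * tA hB e v' c' = tA hB e (v + v') (c + c' + B v' v) := by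
  apply isom_ext; intro x
  rw [mul_smul, tA_smul hB h', tA_smul hB h, tA_smul hB (by rw [map_add, h, h', add_zero])]
  exact sMap_comp hB h h' c c' x

theorem tA_zero_vec (e : V) (c : F) : tA hB e 0 c = transv hB e c := by
  apply isom_ext; intro x
  simp [tA_smul hB (map_zero (B e)), transv_smul]

theorem tA_zero (e : V) : tA hB e 0 (0 : F) = 1 := by
  rw [tA_zero_vec, transv_zero]

theorem tA_inv {e v : V} (h : B e v = 0) (c : F) : (tA hB e v c)⁻¹ = tA hB e (-v) (-c) := by
  refine inv_eq_of_mul_eq_one_right ?_
  rw [tA_mul hB h (by rw [map_neg, h, neg_zero])]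
  simp [hB.self, tA_zero]

theorem tA_conj {e v : V} (h : B e v = 0) (c : F) (g : Isom B) :
    g * tA hB e v c * g⁻¹ = tA hB (g • e) (g • v) c := by
  apply isom_ext; intro x
  rw [mul_smul, mul_smul, tA_smul hB h, tA_smul hB (by rwa [isom_apply_smul]), smul_add, smul_add,
    smul_inv_smul, smul_comm g, smul_comm g, isom_apply_smul_left, isom_apply_smul_left, inv_inv]

omit hB in
theorem flip_smul (g : Isom B) (x y : V) : B x (g • y) = B (g⁻¹ • x) y := by
  rw [isom_apply_smul_left, inv_inv]

theorem tA_scale (e : V) {v : V} {a : F} (ha : a ≠ 0) (h : B e v = 0) (c : F) :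
    tA hB (a • e) v c = tA hB e (a • v) (a ^ 2 * c) := by
  apply isom_ext; intro x
  rw [tA_smul hB (by rw [map_smul, LinearMap.smul_apply, h, smul_zero]),
    tA_smul hB (by rw [map_smul, h, smul_zero])]
  simp only [map_smul, smul_eq_mul]
  module

theorem tA_shift (e : V) {v : V} (h : B e v = 0) (s c : F) :
    tA hB e (v + s • e) c = tA hB e v (c + 2 * s) := by
  apply isom_ext; intro x
  rw [tA_smul hB (by rw [map_add, map_smul, h, hB.self, smul_zero, add_zero]), tA_smul hB h]
  simp only [map_add, map_smul, smul_eq_mul]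
  module

theorem tA_inj {e f v v' : V} (hef : B e f = 1) (h : B e v = 0) (h' : B e v' = 0)
    (hv : B f v = 0) (hv' : B f v' = 0) {c c' : F} (H : tA hB e v c = tA hB e v' c') :
    v = v' ∧ c = c' := by
  have hfe : B f e = -1 := by rw [hB.swap, hef]
  have H1 := congrArg (fun g : Isom B => g • f) H
  simp only [tA_smul hB h, tA_smul hB h', hfe, hv, hv'] at H1
  have hc := congrArg (fun y => B y f) H1
  simp only [map_add, map_smul, LinearMap.add_apply, LinearMap.smul_apply, smul_eq_mul,
    hB.self, hef, hB.comm_eq_zero.mp hv, hB.comm_eq_zero.mp hv'] at hc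
  have hcc : c = c' := by linear_combination -hc
  subst hcc
  exact ⟨by simpa using H1, rfl⟩

/-! ### The Levi complement -/

variable {e f : V} (hef : B e f = 1)

/-- A linear map scaling the hyperbolic pair and acting on its perpendicular. -/
noncomputable def levMap (a : Fˣ) (g : Isom (restr B (pairPerp B e f))) : V →ₗ[F] V :=
  ((a : F) • B.flip f).smulRight e - (((a⁻¹ : Fˣ) : F) • B.flip e).smulRight f +
    (pairPerp B e f).subtype ∘ₗ (g : _ ≃ₗ[F] _).toLinearMap ∘ₗ pairProj hB hef

theorem levMap_apply (a : Fˣ) (g : Isom (restr B (pairPerp B e f))) (x : V) :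
    levMap hB hef a g x = ((a : F) * B x f) • e - (((a⁻¹ : Fˣ) : F) * B x e) • f +
      ((g • pairProj hB hef x : pairPerp B e f) : V) := rfl

include hef in
theorem levMap_comp (a b : Fˣ) (g h : Isom (restr B (pairPerp B e f))) (x : V) :
    levMap hB hef a g (levMap hB hef b h x) = levMap hB hef (a * b) (g * h) x := by
  have hfe : B f e = -1 := by rw [hB.swap, hef]
  set w := h • pairProj hB hef x
  have hw := perp_apply_left hB w
  have h1 : B (levMap hB hef b h x) f = (b : F) * B x f := by
    rw [levMap_apply]
    simp [hef, hB.self, hw.2, w]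
  have h2 : B (levMap hB hef b h x) e = ((b⁻¹ : Fˣ) : F) * B x e := by
    rw [levMap_apply]
    simp [hfe, hB.self, hw.1, w]
  have h3 : pairProj hB hef (levMap hB hef b h x) = w := by
    apply Subtype.ext
    rw [coe_pairProj, h1, h2, levMap_apply]
    module
  rw [levMap_apply, h1, h2, h3, levMap_apply,
    show (g * h) • pairProj hB hef x = g • w from mul_smul g h _]
  simp only [Units.val_mul, mul_inv, ← mul_assoc]

theorem levMap_one (x : V) : levMap hB hef 1 1 x = x := by
  rw [levMap_apply, one_smul, coe_pairProj]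
  simp only [Units.val_one, inv_one, one_mul]
  module

theorem levMap_form (a : Fˣ) (g : Isom (restr B (pairPerp B e f))) (x y : V) :
    B (levMap hB hef a g x) (levMap hB hef a g y) = B x y := by
  have hfe : B f e = -1 := by rw [hB.swap, hef]
  rw [apply_split hB hef x y, levMap_apply, levMap_apply]
  have hx := perp_apply_left hB (g • pairProj hB hef x)
  have hy := mem_pairPerp.mp (g • pairProj hB hef y).2
  have hg : B ((g • pairProj hB hef x : pairPerp B e f) : V)
      ((g • pairProj hB hef y : pairPerp B e f) : V) =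
      B (pairProj hB hef x : V) (pairProj hB hef y) :=
    isom_apply_smul (B := restr B (pairPerp B e f)) g _ _
  simp only [map_add, map_sub, map_smul, LinearMap.add_apply, LinearMap.sub_apply,
    LinearMap.smul_apply, smul_eq_mul, hB.self, hef, hfe, hx.1, hx.2, hy.1, hy.2, hg]
  have ha : (a : F) * ((a⁻¹ : Fˣ) : F) = 1 := a.mul_inv
  linear_combination (B x e * B y f - B x f * B y e) * ha

/-- The Levi complement `F^* × Isom (pair perpendicular)`. -/
noncomputable def lev : Fˣ × Isom (restr B (pairPerp B e f)) →* Isom B where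
  toFun p :=
    ⟨LinearEquiv.ofLinearMap (levMap hB hef p.1 p.2) (levMap hB hef p.1⁻¹ p.2⁻¹)
      (LinearMap.ext fun x => by
        simp [levMap_comp hB hef, levMap_one hB hef])
      (LinearMap.ext fun x => by
        simp [levMap_comp hB hef, levMap_one hB hef]),
      fun x y => levMap_form hB hef p.1 p.2 x y⟩
  map_one' := isom_ext fun x => levMap_one hB hef x
  map_mul' p p' := isom_ext fun x => (levMap_comp hB hef p.1 p'.1 p.2 p'.2 x).symm

theorem lev_smul (p : Fˣ × Isom (restr B (pairPerp B e f))) (x : V) :
    lev hB hef p • x = ((p.1 : F) * B x f) • e - (((p.1⁻¹ : Fˣ) : F) * B x e) • f +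
      ((p.2 • pairProj hB hef x : pairPerp B e f) : V) := rfl

theorem pairProj_self : pairProj hB hef e = 0 := by
  apply Subtype.ext
  simp [coe_pairProj, hef, hB.self]

theorem lev_smul_left (p : Fˣ × Isom (restr B (pairPerp B e f))) :
    lev hB hef p • e = (p.1 : F) • e := by
  simp [lev_smul, pairProj_self hB hef, hef, hB.self]

theorem lev_smul_mem (p : Fˣ × Isom (restr B (pairPerp B e f))) (w : pairPerp B e f) :
    lev hB hef p • (w : V) = ((p.2 • w : pairPerp B e f) : V) := by
  simp [lev_smul, pairProj_of_mem, perp_apply_left hB w]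

omit hB in
theorem perp_e (w : pairPerp B e f) : B e (w : V) = 0 := (mem_pairPerp.mp w.2).1

omit hB in
theorem perp_f (w : pairPerp B e f) : B f (w : V) = 0 := (mem_pairPerp.mp w.2).2

/-- The action of the Levi complement on the Siegel elements. -/
theorem lev_conj (p : Fˣ × Isom (restr B (pairPerp B e f))) (v : pairPerp B e f) (c : F) :
    lev hB hef p * tA hB e (v : V) c * (lev hB hef p)⁻¹ =
      tA hB e (((p.1 : F) • (p.2 • v) : pairPerp B e f) : V) ((p.1 : F) ^ 2 * c) := by
  rw [tA_conj hB (perp_e v), lev_smul_left, lev_smul_mem, tA_scale hB e p.1.ne_zero (perp_e _)]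
  rfl

/-- Transvections of the perpendicular inside the Levi complement. -/
theorem lev_transv (u : pairPerp B e f) (c : F) :
    lev hB hef (1, transv (restr_pairPerp hB hef) u c) = transv hB (u : V) c := by
  apply isom_ext; intro x
  have h : B (pairProj hB hef x : V) (u : V) = B x (u : V) := by
    simp [coe_pairProj, perp_e u, perp_f u]
  rw [lev_smul, transv_smul, transv_smul]
  simp only [Submodule.coe_add, Submodule.coe_smul_of_tower, restr_apply, h, Units.val_one,
    inv_one, one_mul]
  rw [coe_pairProj]
  module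

end Cfsg.Agent.Lib.MinIndexSp
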