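import Mathlib
import Cfsg.Agent.Lib.MinIndexSp.Siegel
import Cfsg.Agent.Lib.MinIndexSp.Count

/-!
Lib/MinIndexSp/Local: a subgroup seen from the stabiliser of a point: the image `lset` and the
centre part `zset` of its Siegel elements, the covered part `cov` of the Levi complement, the bound
`|G : K| ≥ |Levi : cov| |V₀ : L| |F : Z₀|`, and the annihilator of `L`.
-/

set_option autoImplicit false
set_option linter.unusedSectionVars false

namespace Cfsg.Agent.Lib.MinIndexSp

open Module Cfsg.Agent.Lib.Symplectic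

variable {F : Type*} {V : Type*} [Field F] [AddCommGroup V] [Module F V]
variable {B : V →ₗ[F] V →ₗ[F] F} (hB : IsSympForm B)

/-- The scalars `c` such that the transvection `transv e c` lies in `K`. -/
def zset (e : V) (K : Subgroup (Isom B)) : AddSubgroup F where
  carrier := {c | transv hB e c ∈ K}
  zero_mem' := by simp [K.one_mem]
  add_mem' {a b} ha hb := by
    show transv hB e (a + b) ∈ K
    rw [← transv_mul]; exact K.mul_mem ha hb
  neg_mem' {a} ha := by
    show transv hB e (-a) ∈ K
    rw [← transv_inv]; exact K.inv_mem ha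

theorem mem_zset {e : V} {K : Subgroup (Isom B)} {c : F} :
    c ∈ zset hB e K ↔ transv hB e c ∈ K := Iff.rfl

variable {e f : V} (hef : B e f = 1)

/-- The image in the perpendicular of the pair of the Siegel elements in `K`. -/
def lset (e f : V) (K : Subgroup (Isom B)) : AddSubgroup (pairPerp B e f) where
  carrier := {v | ∃ c, tA hB e (v : V) c ∈ K}
  zero_mem' := ⟨0, by rw [ZeroMemClass.coe_zero, tA_zero]; exact K.one_mem⟩
  add_mem' {v w} := by
    rintro ⟨c, hc⟩ ⟨d, hd⟩
    exact ⟨_, by rw [Submodule.coe_add, ← tA_mul hB (perp_e v) (perp_e w)]; exact K.mul_mem hc hd⟩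
  neg_mem' {v} := by
    rintro ⟨c, hc⟩
    exact ⟨_, by rw [Submodule.coe_neg, ← tA_inv hB (perp_e v)]; exact K.inv_mem hc⟩

theorem mem_lset {K : Subgroup (Isom B)} {v : pairPerp B e f} :
    v ∈ lset hB e f K ↔ ∃ c, tA hB e (v : V) c ∈ K := Iff.rfl

/-- The action of the Levi complement on the parameters. -/
def act (p : Fˣ × Isom (restr B (pairPerp B e f))) (v : pairPerp B e f) : pairPerp B e f :=
  (p.1 : F) • (p.2 • v)

theorem lev_conj' (p : Fˣ × Isom (restr B (pairPerp B e f))) (v : pairPerp B e f) (c : F) :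
    lev hB hef p * tA hB e (v : V) c =
      tA hB e ((act p v : pairPerp B e f) : V) ((p.1 : F) ^ 2 * c) * lev hB hef p :=
  mul_inv_eq_iff_eq_mul.1 (lev_conj hB hef p v c)

/-- The part of the Levi complement covered by `K` modulo the Siegel elements. -/
def cov (K : Subgroup (Isom B)) : Subgroup (Fˣ × Isom (restr B (pairPerp B e f))) where
  carrier := {p | ∃ (v : pairPerp B e f) (c : F), tA hB e (v : V) c * lev hB hef p ∈ K}
  one_mem' := ⟨0, 0, by rw [ZeroMemClass.coe_zero, tA_zero, map_one, one_mul]; exact K.one_mem⟩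
  mul_mem' {p p'} := by
    rintro ⟨v, c, h⟩ ⟨v', c', h'⟩
    refine ⟨v + act p v', c + (p.1 : F) ^ 2 * c' + B (act p v' : V) v, ?_⟩
    have h1 := K.mul_mem h h'
    rwa [mul_assoc, ← mul_assoc (lev hB hef p), lev_conj' hB hef, ← mul_assoc, ← mul_assoc,
      tA_mul hB (perp_e _) (perp_e _), mul_assoc, ← map_mul, ← Submodule.coe_add] at h1
  inv_mem' {p} := by
    rintro ⟨v, c, h⟩
    refine ⟨act p⁻¹ (-v), ((p⁻¹).1 : F) ^ 2 * -c, ?_⟩
    have h1 := K.inv_mem h
    rwa [mul_inv_rev, tA_inv hB (perp_e v), ← map_inv, ← Submodule.coe_neg, lev_conj' hB hef]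
      at h1

/-- The stabiliser of the two invariants in the Levi complement. -/
def invStab (K : Subgroup (Isom B)) : Subgroup (Fˣ × Isom (restr B (pairPerp B e f))) where
  carrier := {p | (∀ v, v ∈ lset hB e f K ↔ act p v ∈ lset hB e f K) ∧
    ∀ c : F, c ∈ zset hB e K ↔ (p.1 : F) ^ 2 * c ∈ zset hB e K}
  one_mem' := ⟨fun v => by simp [act], fun c => by simp⟩
  mul_mem' {p p'} h h' := by
    have e1 : ∀ v : pairPerp B e f, act (p * p') v = act p (act p' v) := fun v => by
      simp only [act, Prod.fst_mul, Prod.snd_mul, Units.val_mul, mul_smul]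
      rw [smul_comm p.2 (p'.1 : F)]
    refine ⟨fun v => by rw [e1, ← h.1, ← h'.1], fun c => ?_⟩
    rw [h'.2 c, h.2 ((p'.1 : F) ^ 2 * c), Prod.fst_mul, Units.val_mul, mul_pow, mul_assoc]
  inv_mem' {p} h := by
    have e1 : ∀ v : pairPerp B e f, act p (act p⁻¹ v) = v := fun v => by
      simp only [act, Prod.fst_inv, Prod.snd_inv]
      rw [smul_comm p.2, smul_inv_smul, smul_smul, p.1.mul_inv, one_smul]
    refine ⟨fun v => by rw [h.1 (act p⁻¹ v), e1], fun c => ?_⟩
    rw [h.2 (((p⁻¹).1 : F) ^ 2 * c), Prod.fst_inv, ← mul_assoc, ← mul_pow, p.1.mul_inv, one_pow,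
      one_mul]

theorem transv_comm_tA (v : pairPerp B e f) (c d : F) :
    tA hB e (v : V) c * transv hB e d = transv hB e d * tA hB e (v : V) c := by
  rw [← tA_zero_vec hB e d, tA_mul hB (perp_e v) (map_zero _), tA_mul hB (map_zero _) (perp_e v)]
  simp [perp_e, add_comm c d]

theorem cov_mem {K : Subgroup (Isom B)} {p : Fˣ × Isom (restr B (pairPerp B e f))}
    (hp : p ∈ cov hB hef K) :
    (∀ v ∈ lset hB e f K, act p v ∈ lset hB e f K) ∧
      ∀ c ∈ zset hB e K, (p.1 : F) ^ 2 * c ∈ zset hB e K := by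
  obtain ⟨w, d, h⟩ := hp
  have key : ∀ (v : pairPerp B e f) (c : F), tA hB e (v : V) c ∈ K →
      tA hB e (w : V) d * tA hB e (act p v : V) ((p.1 : F) ^ 2 * c) * (tA hB e (w : V) d)⁻¹ ∈ K := by
    intro v c hvc
    have h1 := K.mul_mem (K.mul_mem h hvc) (K.inv_mem h)
    rwa [mul_inv_rev, ← mul_assoc, mul_assoc (tA hB e (w : V) d) (lev hB hef p), lev_conj' hB hef,
      ← mul_assoc, mul_inv_cancel_right] at h1
  refine ⟨?_, fun c hc => ?_⟩
  · rintro v ⟨c, hc⟩
    have h1 := key v c hc
    rw [tA_inv hB (perp_e w), tA_mul hB (perp_e _) (perp_e _),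
      tA_mul hB (by rw [map_add, perp_e, perp_e, add_zero]) (by rw [map_neg, perp_e, neg_zero]),
      add_neg_cancel_comm] at h1
    exact ⟨_, h1⟩
  · have h1 := key 0 c (by rwa [ZeroMemClass.coe_zero, tA_zero_vec])
    rw [show act p (0 : pairPerp B e f) = 0 by simp [act], ZeroMemClass.coe_zero, tA_zero_vec,
      transv_comm_tA, mul_inv_cancel_right] at h1
    exact h1

theorem cov_le_invStab (K : Subgroup (Isom B)) : cov hB hef K ≤ invStab hB K := by
  intro p hp
  obtain ⟨h1, h2⟩ := cov_mem hB hef hp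
  obtain ⟨h3, h4⟩ := cov_mem hB hef ((cov hB hef K).inv_mem hp)
  have e1 : ∀ v : pairPerp B e f, act p⁻¹ (act p v) = v := fun v => by
    simp only [act, Prod.fst_inv, Prod.snd_inv]
    rw [smul_comm p.2⁻¹, inv_smul_smul, smul_smul, p.1.inv_mul, one_smul]
  refine ⟨fun v => ⟨h1 v, fun h => ?_⟩, fun c => ⟨h2 c, fun h => ?_⟩⟩
  · rw [← e1 v]; exact h3 _ h
  · have := h4 _ h
    rwa [Prod.fst_inv, ← mul_assoc, ← mul_pow, p.1.inv_mul, one_pow, one_mul] at this

section Finite

variable [Finite F] [FiniteDimensional F V]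

theorem finite_isom : Finite (Isom B) := by
  have : Finite V := Module.finite_of_finite F
  have : Finite (V ≃ₗ[F] V) := DFunLike.finite _
  infer_instance

include hef in
/-- The index of `K` is at least the number of Siegel orbits times their size. -/
theorem cov_index_mul_le (K : Subgroup (Isom B)) :
    (cov hB hef K).index * ((lset hB e f K).index * (zset hB e K).index) ≤ K.index := by
  have : Finite (Isom B) := finite_isom
  set C := cov hB hef K
  set L := lset hB e f K
  set Z := zset hB e K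
  let g : ((Fˣ × Isom (restr B (pairPerp B e f))) ⧸ C) × ((pairPerp B e f) ⧸ L) × (F ⧸ Z) →
      Isom B := fun x =>
    lev hB hef x.1.out * tA hB e ((x.2.1.out : pairPerp B e f) : V) x.2.2.out
  rw [Subgroup.index_eq_card, AddSubgroup.index_eq_card, AddSubgroup.index_eq_card,
    ← Nat.card_prod, ← Nat.card_prod]
  refine card_le_index K g ?_
  rintro ⟨o, v, c⟩ ⟨o', v', c'⟩ h
  simp only [g] at h
  rw [mul_inv_rev, mul_assoc, ← mul_assoc (lev hB hef o.out)⁻¹, ← map_inv, ← map_mul,
    lev_conj' hB hef, tA_inv hB (perp_e _), ← mul_assoc, tA_mul hB (by rw [map_neg, perp_e, neg_zero])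
    (perp_e _)] at h
  have hp : o.out⁻¹ * o'.out ∈ C := ⟨-v.out + act (o.out⁻¹ * o'.out) v'.out, _, h⟩
  obtain rfl : o = o' := by
    rw [← QuotientGroup.out_eq' o, ← QuotientGroup.out_eq' o', QuotientGroup.eq]; exact hp
  rw [inv_mul_cancel, map_one, mul_one] at h
  simp only [act, Prod.fst_one, Prod.snd_one, Units.val_one, one_smul, one_pow, one_mul] at h
  obtain rfl : v = v' := by
    rw [← QuotientAddGroup.out_eq' v, ← QuotientAddGroup.out_eq' v', QuotientAddGroup.eq]
    exact ⟨_, h⟩
  rw [neg_add_cancel, tA_zero_vec, map_neg, hB.self, neg_zero, add_zero] at h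
  obtain rfl : c = c' := by
    rw [← QuotientAddGroup.out_eq' c, ← QuotientAddGroup.out_eq' c', QuotientAddGroup.eq]
    exact h
  rfl

variable (ψ : AddChar F ℂ)

/-- The annihilator of `L` for `ψ ∘ B`. -/
def ann (L : AddSubgroup (pairPerp B e f)) : AddSubgroup (pairPerp B e f) where
  carrier := {w | ∀ l ∈ L, ψ (B (w : V) (l : V)) = 1}
  zero_mem' l _ := by simp
  add_mem' {a b} ha hb l hl := by
    rw [Submodule.coe_add, map_add, LinearMap.add_apply, AddChar.map_add_eq_mul, ha l hl, hb l hl,
      one_mul]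
  neg_mem' {a} ha l hl := by
    rw [Submodule.coe_neg, map_neg, LinearMap.neg_apply, AddChar.map_neg_eq_inv, ha l hl, inv_one]

theorem mem_ann {L : AddSubgroup (pairPerp B e f)} {w : pairPerp B e f} :
    w ∈ ann ψ L ↔ ∀ l ∈ L, ψ (B (w : V) (l : V)) = 1 := Iff.rfl

include hB hef in
theorem card_ann (hψ : ψ.IsPrimitive) (L : AddSubgroup (pairPerp B e f)) :
    Nat.card (ann ψ L) = L.index := by
  have : Finite (pairPerp B e f) := Module.finite_of_finite F
  have : Fintype (pairPerp B e f) := Fintype.ofFinite _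
  let Φ : pairPerp B e f → AddChar (pairPerp B e f) ℂ := fun w =>
    ⟨fun l => ψ (B (w : V) (l : V)), by simp, fun a b => by
      rw [Submodule.coe_add, map_add, AddChar.map_add_eq_mul]⟩
  have hinj : Function.Injective Φ := by
    intro w w' h
    refine sub_eq_zero.1 ((restr_pairPerp hB hef).nondeg _ fun l => ?_)
    by_contra hne
    refine hψ hne (DFunLike.ext _ _ fun t => ?_)
    have h1 := DFunLike.congr_fun h (t • l)
    simp only [Φ, AddChar.coe_mk, Submodule.coe_smul, map_smul, smul_eq_mul] at h1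
    rw [AddChar.mulShift_apply, AddChar.one_apply, restr_apply, Submodule.coe_sub, map_sub,
      LinearMap.sub_apply, sub_mul, mul_comm _ t, mul_comm _ t, sub_eq_add_neg,
      AddChar.map_add_eq_mul, h1, ← AddChar.map_add_eq_mul, add_neg_cancel, AddChar.map_zero_eq_one]
  have : Fintype (AddChar (pairPerp B e f) ℂ) := Fintype.ofFinite _
  have hcard : ∀ (α : Type _) [AddCommGroup α] [Finite α], Nat.card (AddChar α ℂ) = Nat.card α := by
    intro α _ _
    have := Fintype.ofFinite α
    rw [Nat.card_eq_fintype_card, Nat.card_eq_fintype_card, AddChar.card_eq]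
  have hbij : Function.Bijective Φ := by
    rw [Fintype.bijective_iff_injective_and_card, ← Nat.card_eq_fintype_card,
      ← Nat.card_eq_fintype_card, hcard]
    exact ⟨hinj, rfl⟩
  rw [AddSubgroup.index_eq_card, ← hcard (pairPerp B e f ⧸ L)]
  refine Nat.card_congr ?_
  let down : ann ψ L → AddChar (pairPerp B e f ⧸ L) ℂ := fun w =>
    AddChar.toAddMonoidHomEquiv.symm (QuotientAddGroup.lift L
      (Φ (w : pairPerp B e f)).toAddMonoidHom fun l hl => by
        rw [AddMonoidHom.mem_ker, AddChar.toAddMonoidHom_apply]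
        exact congrArg Additive.ofMul (w.2 l hl))
  refine Equiv.ofBijective down ⟨fun w w' h => Subtype.ext (hinj ?_), fun χ => ?_⟩
  · ext l
    exact DFunLike.congr_fun h (QuotientAddGroup.mk l)
  · obtain ⟨w, hw⟩ := hbij.2 (χ.compAddMonoidHom (QuotientAddGroup.mk' L))
    refine ⟨⟨w, fun l hl => ?_⟩, ?_⟩
    · have := DFunLike.congr_fun hw l
      simp only [Φ, AddChar.coe_mk, AddChar.compAddMonoidHom_apply, QuotientAddGroup.mk'_apply]
        at this
      rw [this, (QuotientAddGroup.eq_zero_iff l).2 hl, AddChar.map_zero_eq_one]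
    · ext x
      obtain ⟨l, rfl⟩ := QuotientAddGroup.mk_surjective x
      exact DFunLike.congr_fun hw l

/-- The stabiliser of an additive subgroup in the isometries of the perpendicular. -/
def setStab (M : AddSubgroup (pairPerp B e f)) : Subgroup (Isom (restr B (pairPerp B e f))) where
  carrier := {g | ∀ w, w ∈ M ↔ g • w ∈ M}
  one_mem' w := by simp
  mul_mem' {g h} hg hh w := by rw [hh w, hg (h • w), mul_smul]
  inv_mem' {g} hg w := by rw [hg (g⁻¹ • w), smul_inv_smul]

include hef in
theorem invStab_snd_mem (K : Subgroup (Isom B)) {g : Isom (restr B (pairPerp B e f))}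
    (h : ((1 : Fˣ), g) ∈ invStab hB K) : g ∈ setStab (ann ψ (lset hB e f K)) := by
  have h1 : ∀ l, l ∈ lset hB e f K ↔ g • l ∈ lset hB e f K := fun l => by
    simpa [act] using h.1 l
  intro w
  constructor
  · intro hw l hl
    have h2 : g⁻¹ • l ∈ lset hB e f K := by rw [h1, smul_inv_smul]; exact hl
    have h3 := isom_apply_smul (B := restr B (pairPerp B e f)) g w (g⁻¹ • l)
    rw [smul_inv_smul, restr_apply, restr_apply] at h3
    rw [h3]; exact hw _ h2
  · intro hw l hl
    have h3 := isom_apply_smul (B := restr B (pairPerp B e f)) g w l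
    rw [restr_apply, restr_apply] at h3
    rw [← h3]; exact hw _ ((h1 l).1 hl)

include hef in
/-- Images of the pair of invariants: scalars times isometries. -/
theorem stab_index_le (K : Subgroup (Isom B)) :
    (sqStab (zset hB e K)).index * (setStab (ann ψ (lset hB e f K))).index ≤
      (invStab hB (e := e) (f := f) K).index := by
  have : Finite (pairPerp B e f) := Module.finite_of_finite F
  have : Finite (Isom (restr B (pairPerp B e f))) := finite_isom
  rw [Subgroup.index_eq_card, Subgroup.index_eq_card, ← Nat.card_prod]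
  refine card_le_index _ (fun x => (x.1.out, x.2.out)) ?_
  rintro ⟨a, g⟩ ⟨a', g'⟩ h
  simp only [Prod.inv_mk, Prod.mk_mul_mk] at h
  obtain rfl : a = a' := by
    rw [← QuotientGroup.out_eq' a, ← QuotientGroup.out_eq' a', QuotientGroup.eq]; exact h.2
  rw [inv_mul_cancel] at h
  obtain rfl : g = g' := by
    rw [← QuotientGroup.out_eq' g, ← QuotientGroup.out_eq' g', QuotientGroup.eq]
    exact invStab_snd_mem hB hef ψ K h
  rfl

include hef in
/-- The index of `K` from the invariants, doubled if the Levi stabiliser is not covered. -/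
theorem index_ge (hψ : ψ.IsPrimitive) (K : Subgroup (Isom B)) :
    (sqStab (zset hB e K)).index * (zset hB e K).index *
        ((setStab (ann ψ (lset hB e f K))).index * Nat.card (ann ψ (lset hB e f K))) ≤ K.index ∧
    (¬ invStab hB (e := e) (f := f) K ≤ cov hB hef K →
      2 * ((sqStab (zset hB e K)).index * (zset hB e K).index *
        ((setStab (ann ψ (lset hB e f K))).index * Nat.card (ann ψ (lset hB e f K)))) ≤ K.index) := by
  have : Finite (pairPerp B e f) := Module.finite_of_finite F
  have : Finite (Isom (restr B (pairPerp B e f))) := finite_isom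
  have h1 := cov_index_mul_le hB hef K
  have h2 := stab_index_le hB hef ψ K
  have h3 := Subgroup.relIndex_mul_index (cov_le_invStab hB hef K)
  rw [← card_ann hB hef ψ hψ (lset hB e f K)] at h1
  set T := (sqStab (zset hB e K)).index
  set I := (setStab (ann ψ (lset hB e f K))).index
  set Zi := (zset hB e K).index
  set M := Nat.card (ann ψ (lset hB e f K))
  set S := (invStab hB (e := e) (f := f) K).index
  set r := (cov hB hef K).relIndex (invStab hB K)
  have hr : 1 ≤ r := Nat.pos_of_ne_zero Subgroup.FiniteIndex.index_ne_zero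
  have hmain : r * (T * Zi * (I * M)) ≤ K.index := by
    refine le_trans ?_ h1
    rw [← h3]
    calc r * (T * Zi * (I * M)) = r * (T * I) * (M * Zi) := by ring
      _ ≤ r * S * (M * Zi) := Nat.mul_le_mul_right _ (Nat.mul_le_mul_left _ h2)
  refine ⟨le_trans (Nat.le_mul_of_pos_left _ hr) hmain, fun hne => le_trans ?_ hmain⟩
  refine Nat.mul_le_mul_right _ ?_
  have hr1 : r ≠ 1 := fun h => hne (Subgroup.relIndex_eq_one.1 h)
  omega

end Finite

end Cfsg.Agent.Lib.MinIndexSp
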