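import Mathlib
import Cfsg.Agent.Lib.MinIndexSp.Local
import Cfsg.Agent.Lib.Symplectic.Order

/-!
Lib/MinIndexSp/Core: consequences of a covered torus element or central involution of the Levi
complement, and the number of translates of an additive subgroup under a symplectic group.
-/

set_option autoImplicit false
set_option linter.unusedSectionVars false

namespace Cfsg.Agent.Lib.MinIndexSp

open Module Cfsg.Agent.Lib.Symplectic Pointwise

variable {F : Type*} {V : Type*} [Field F] [Finite F] [AddCommGroup V] [Module F V]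
variable [FiniteDimensional F V]
variable {B : V →ₗ[F] V →ₗ[F] F} (hB : IsSympForm B)

/-- The conjugate subgroup. -/
abbrev conjBy (r : Isom B) (K : Subgroup (Isom B)) : Subgroup (Isom B) :=
  K.comap (MulAut.conj r).toMonoidHom

theorem mem_conjBy {r x : Isom B} {K : Subgroup (Isom B)} :
    x ∈ conjBy r K ↔ r * x * r⁻¹ ∈ K := Iff.rfl

/-- No complete root group of transvections lies in `K`. -/
def NoFull (K : Subgroup (Isom B)) : Prop := ∀ a : V, a ≠ 0 → ∃ c : F, transv hB a c ∉ K

theorem NoFull.conj {K : Subgroup (Isom B)} (h : NoFull hB K) (r : Isom B) :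
    NoFull hB (conjBy r K) := by
  intro a ha
  obtain ⟨c, hc⟩ := h (r • a) (isom_smul_ne_zero r ha)
  exact ⟨c, by rwa [mem_conjBy, transv_conj]⟩

variable {e f : V} (hef : B e f = 1)

theorem transv_comm_lev (c : F) (g : Isom (restr B (pairPerp B e f))) :
    lev hB hef (1, g) * transv hB e c = transv hB e c * lev hB hef (1, g) := by
  have h := lev_conj' hB hef (1, g) 0 c
  simpa [act, tA_zero_vec] using h

include hef in
theorem zset_conjBy (K : Subgroup (Isom B)) (v : pairPerp B e f) (d : F) :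
    zset hB e (conjBy (tA hB e (v : V) d) K) = zset hB e K := by
  ext c
  rw [mem_zset, mem_zset, mem_conjBy, transv_comm_tA, mul_inv_cancel_right]

theorem cov_conjBy {K : Subgroup (Isom B)} (v : pairPerp B e f) (d : F)
    {p : Fˣ × Isom (restr B (pairPerp B e f))} (hp : p ∈ cov hB hef K) :
    p ∈ cov hB hef (conjBy (tA hB e (v : V) d) K) := by
  obtain ⟨w, c, h⟩ := hp
  refine ⟨-v + w + act p v, -d + c + B (w : V) (-(v : V)) + (p.1 : F) ^ 2 * d +
    B (act p v : V) ((-v + w : pairPerp B e f) : V), ?_⟩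
  rw [mem_conjBy]
  convert h using 1
  rw [Submodule.coe_add, Submodule.coe_add, Submodule.coe_neg,
    ← tA_mul hB (by rw [map_add, map_neg, perp_e, perp_e, neg_zero, add_zero]) (perp_e (act p v)),
    ← tA_mul hB (by rw [map_neg, perp_e, neg_zero]) (perp_e w), ← tA_inv hB (perp_e v),
    mul_assoc (_ * _) (tA hB e (act p v : V) _), ← lev_conj' hB hef]
  group

include hef in
/-- A covered torus element makes the covered isometries of the perpendicular lie in a conjugate. -/
theorem lev_mem_of_torus {K : Subgroup (Isom B)} {a : Fˣ} (ha2 : (a : F) ^ 2 ≠ 1)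
    (hd : ((a, 1) : Fˣ × Isom (restr B (pairPerp B e f))) ∈ cov hB hef K) :
    ∃ r : Isom B, ∀ g, (((1 : Fˣ), g) : Fˣ × Isom (restr B (pairPerp B e f))) ∈ cov hB hef K →
      lev hB hef (1, g) ∈ conjBy r K := by
  have ha1 : (1 : F) - a ≠ 0 := fun h => ha2 (by linear_combination (-1 - (a : F)) * h)
  have ha2' : (1 : F) - (a : F) ^ 2 ≠ 0 := sub_ne_zero.2 (Ne.symm ha2)
  have hact : ∀ v : pairPerp B e f, act ((a, 1) : Fˣ × Isom (restr B (pairPerp B e f))) v =
      (a : F) • v := fun v => by simp [act]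
  obtain ⟨v0, c0, hd0⟩ := hd
  have hd' := (⟨v0, c0, hd0⟩ :
    ((a, 1) : Fˣ × Isom (restr B (pairPerp B e f))) ∈ cov hB hef K)
  let v := ((1 : F) - a)⁻¹ • v0
  let c := ((1 : F) - (a : F) ^ 2)⁻¹ * c0
  refine ⟨tA hB e (v : V) c, fun g hg => ?_⟩
  set d := lev hB hef (a, 1) with hdd
  set K' := conjBy (tA hB e (v : V) c) K
  have hmul : ∀ (w : pairPerp B e f) (s : F), tA hB e (w : V) s * d * (tA hB e (w : V) s)⁻¹ =
      tA hB e (((1 - (a : F)) • w : pairPerp B e f) : V) ((1 - (a : F) ^ 2) * s) * d := by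
    intro w s
    rw [tA_inv hB (perp_e w), ← Submodule.coe_neg, mul_assoc, lev_conj' hB hef, hact,
      ← mul_assoc, tA_mul hB (perp_e _) (perp_e _)]
    congr 2
    · simp only [Submodule.coe_smul, Submodule.coe_neg]; module
    · simp [hB.self]; ring
  have hd1 : d ∈ K' := by
    rw [mem_conjBy, hmul]
    have e1 : (1 - (a : F)) • v = v0 := smul_inv_smul₀ ha1 v0
    have e2 : (1 - (a : F) ^ 2) * c = c0 := mul_inv_cancel_left₀ ha2' c0
    rwa [e1, e2]
  obtain ⟨hL, hZ⟩ := cov_mem hB hef (cov_conjBy hB hef v c hd')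
  obtain ⟨w, s, hw⟩ := cov_conjBy hB hef v c hg
  have hgd : lev hB hef (1, g) * d = d * lev hB hef (1, g) := by
    rw [hdd, ← map_mul, ← map_mul]; simp
  have hcom : ∀ (w : pairPerp B e f) (s : F), tA hB e (w : V) s * lev hB hef (1, g) ∈ K' →
      tA hB e (((1 - (a : F)) • w : pairPerp B e f) : V) ((1 - (a : F) ^ 2) * s) ∈ K' := by
    intro w s h
    have h1 := K'.mul_mem (K'.mul_mem (K'.mul_mem h hd1) (K'.inv_mem h)) (K'.inv_mem hd1)
    rwa [mul_inv_rev, mul_assoc (tA hB e (w : V) s) (lev hB hef (1, g)) d, hgd, ← mul_assoc,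
      ← mul_assoc, mul_inv_cancel_right, hmul, mul_inv_cancel_right] at h1
  have hwL : w ∈ lset hB e f K' := by
    refine smul_inv_mem (F := F) _ ha1 (fun x hx => ?_) ⟨_, hcom w s hw⟩
    have := hL x hx
    rw [hact] at this
    rw [sub_smul, one_smul]
    exact sub_mem hx this
  obtain ⟨s1, hs1⟩ := hwL
  have h2 := K'.mul_mem (K'.inv_mem hs1) hw
  rw [← mul_assoc, tA_inv hB (perp_e w), tA_mul hB (by rw [map_neg, perp_e, neg_zero]) (perp_e w),
    neg_add_cancel, map_neg, hB.self, neg_zero, add_zero, tA_zero_vec] at h2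
  have h3 := hcom 0 (-s1 + s) (by rwa [ZeroMemClass.coe_zero, tA_zero_vec])
  rw [smul_zero, ZeroMemClass.coe_zero, tA_zero_vec] at h3
  have h4 : -s1 + s ∈ zset hB e K' := by
    refine smul_inv_mem (F := F) _ ha2' (fun x hx => ?_) h3
    show (1 - (a : F) ^ 2) * x ∈ zset hB e K'
    rw [sub_mul, one_mul]
    exact sub_mem hx (hZ x hx)
  have h5 := K'.mul_mem (K'.inv_mem h4) h2
  rwa [inv_mul_cancel_left] at h5

/-- `-1` on the perpendicular. -/
abbrev negP (B : V →ₗ[F] V →ₗ[F] F) (e f : V) : Fˣ × Isom (restr B (pairPerp B e f)) :=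
  (1, negIsom (restr B (pairPerp B e f)))

include hef in
/-- A covered central involution makes the covered isometries of the perpendicular lie in a
conjugate up to transvections at `e`. -/
theorem lev_mem_of_neg (h2 : (2 : F) ≠ 0) {K : Subgroup (Isom B)}
    (hs : negP B e f ∈ cov hB hef K) :
    ∃ r : Isom B, ∀ g, (((1 : Fˣ), g) : Fˣ × Isom (restr B (pairPerp B e f))) ∈ cov hB hef K →
      ∃ c, transv hB e c * lev hB hef (1, g) ∈ conjBy r K := by
  have hact : ∀ v : pairPerp B e f, act (negP B e f) v = -v := fun v => by simp [act]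
  obtain ⟨v0, c0, hs0⟩ := hs
  let v := (2 : F)⁻¹ • v0
  refine ⟨tA hB e (v : V) 0, fun g hg => ?_⟩
  set s := lev hB hef (negP B e f) with hss
  set K' := conjBy (tA hB e (v : V) 0) K
  have hs2 : s * s = 1 := by
    rw [hss, ← map_mul, show negP B e f * negP B e f = 1 from
      Prod.ext (one_mul _) (isom_ext fun x => by simp [mul_smul]), map_one]
  have hmul : ∀ (w : pairPerp B e f) (t : F), tA hB e (w : V) t * s * (tA hB e (w : V) t)⁻¹ =
      tA hB e (((2 : F) • w : pairPerp B e f) : V) 0 * s := by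
    intro w t
    rw [tA_inv hB (perp_e w), ← Submodule.coe_neg, mul_assoc, lev_conj' hB hef, hact, neg_neg,
      ← mul_assoc, tA_mul hB (perp_e _) (perp_e _)]
    congr 2
    · simp only [Submodule.coe_smul]; module
    · simp [hB.self]
  have hc0 : transv hB e c0 * s ∈ K' := by
    rw [mem_conjBy]
    have e1 : (2 : F) • v = v0 := smul_inv_smul₀ h2 v0
    rw [← mul_assoc, transv_comm_tA, mul_assoc (transv hB e c0), mul_assoc, hmul, e1, ← mul_assoc,
      ← tA_zero_vec hB e c0, tA_mul hB (map_zero _) (perp_e v0)]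
    simpa [perp_e] using hs0
  have hts : s * transv hB e c0 = transv hB e c0 * s := transv_comm_lev hB hef c0 _
  have hc0' : c0 ∈ zset hB e K' := by
    refine half_mem (F := F) _ h2 ?_
    have h := K'.mul_mem hc0 hc0
    rw [mul_assoc, ← mul_assoc s, hts, mul_assoc (transv hB e c0) s, hs2, mul_one,
      transv_mul] at h
    show transv hB e ((2 : F) • c0) ∈ K'
    rwa [smul_eq_mul, two_mul]
  have hs1 : s ∈ K' := by simpa using K'.mul_mem (K'.inv_mem hc0') hc0
  obtain ⟨w, t, hw⟩ := cov_conjBy hB hef v 0 hg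
  have hgs : lev hB hef (1, g) * s = s * lev hB hef (1, g) := by
    rw [hss, ← map_mul, ← map_mul]
    refine congrArg _ (Prod.ext rfl (isom_ext fun x => ?_))
    simp [mul_smul]
  have h1 := K'.mul_mem (K'.mul_mem (K'.mul_mem hw hs1) (K'.inv_mem hw)) (K'.inv_mem hs1)
  rw [mul_inv_rev, mul_assoc (tA hB e (w : V) t) (lev hB hef (1, g)) s, hgs, ← mul_assoc,
    ← mul_assoc, mul_inv_cancel_right, hmul, mul_inv_cancel_right] at h1
  let A : AddSubgroup F :=
    { carrier := {x | tA hB e ((x • w : pairPerp B e f) : V) 0 ∈ K'}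
      zero_mem' := by simp [tA_zero]
      add_mem' := fun {x y} hx hy => by
        have h := K'.mul_mem hx hy
        rw [tA_mul hB (perp_e _) (perp_e _)] at h
        simp only [Set.mem_setOf_eq]
        convert h using 2
        · simp [add_smul]
        · simp [hB.self]
      neg_mem' := fun {x} hx => by
        have h := K'.inv_mem hx
        rw [tA_inv hB (perp_e _), neg_zero] at h
        simpa [Set.mem_setOf_eq] using h }
  have h12 : (1 : F) ∈ A := half_mem (F := F) A h2 (by simpa [A] using h1)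
  have h3 : tA hB e (w : V) 0 ∈ K' := by simpa [A] using h12
  refine ⟨t, ?_⟩
  have h4 := K'.mul_mem (K'.inv_mem h3) hw
  rwa [← mul_assoc, tA_inv hB (perp_e w), tA_mul hB (by rw [map_neg, perp_e, neg_zero]) (perp_e w),
    neg_add_cancel, map_neg, hB.self, neg_zero, zero_add, add_zero, tA_zero_vec] at h4

/-! ### Translates of an additive subgroup -/

include hB in
theorem exists_smul_mem {M : AddSubgroup V} (hM : M ≠ ⊥) {u : V} (hu : u ≠ 0) :
    ∃ g : Isom B, u ∈ g • ((M : Set V) \ {0}) := by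
  obtain ⟨a, ha, ha0⟩ := M.bot_or_exists_ne_zero.resolve_left hM
  obtain ⟨g, hg⟩ := exists_smul_eq_of_ne_zero hB ha0 hu
  exact ⟨g, a, ⟨ha, ha0⟩, hg⟩

include hB in
/-- The translates of an additive subgroup cover the non-zero vectors, twice unless it is a part of
a line or everything. -/
theorem images_bound (M : AddSubgroup V) (hM : M ≠ ⊥) (H : Subgroup (Isom B))
    (hH : ∀ g, g ∈ H ↔ ∀ w, w ∈ M ↔ g • w ∈ M) :
    Nat.card V - 1 ≤ H.index * (Nat.card M - 1) ∧
      (2 * (Nat.card V - 1) ≤ H.index * (Nat.card M - 1) ∨ M = ⊤ ∨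
        ∃ u : V, u ≠ 0 ∧ ∀ w ∈ M, ∃ t : F, w = t • u) := by
  have : Finite V := Module.finite_of_finite F
  have : Finite (Isom B) := finite_isom
  set A : Set V := (M : Set V) \ {0} with hA
  have hAc : A.ncard = Nat.card M - 1 := by
    rw [Set.ncard_sdiff_singleton_of_mem M.zero_mem, ← Nat.card_coe_set_eq]
    rfl
  have hT : ({0} : Set V)ᶜ.ncard = Nat.card V - 1 := by
    rw [Set.ncard_compl, Set.ncard_singleton]
  have hstab : ∀ g ∈ H, g • A = A := fun g hg => by
    ext x
    rw [Set.mem_smul_set_iff_inv_smul_mem]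
    simp only [hA, Set.mem_sdiff, SetLike.mem_coe, Set.mem_singleton_iff]
    rw [(hH g).1 hg (g⁻¹ • x), smul_inv_smul, smul_eq_zero_iff_eq]
  have hone := card_le_index_mul hstab (T := {0}ᶜ) fun u hu => exists_smul_mem hB hM hu
  rw [hT, hAc] at hone
  refine ⟨hone, ?_⟩
  by_cases htwo : ∀ u : V, u ≠ 0 → ∃ g g' : Isom B, u ∈ g • A ∧ u ∈ g' • A ∧ g • A ≠ g' • A
  · have := two_mul_card_le_index_mul hstab (T := {0}ᶜ) htwo
    rw [hT, hAc] at this
    exact Or.inl this
  right
  push Not at htwo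
  obtain ⟨u1, hu1, huni⟩ := htwo
  obtain ⟨g1, hg1⟩ := exists_smul_mem hB hM hu1
  have hfix : ∀ u ∈ M, u ≠ 0 → ∀ h : Isom B, h • u = u → ∀ w ∈ M, h • w ∈ M := by
    intro u hu hu0 h hh w hw
    obtain ⟨k, hk⟩ := exists_smul_eq_of_ne_zero hB hu0 hu1
    have m1 : u1 ∈ k • A := ⟨u, ⟨hu, hu0⟩, hk⟩
    have m2 : u1 ∈ (k * h) • A := ⟨u, ⟨hu, hu0⟩, by
      show (k * h) • u = u1
      rw [mul_smul, hh, hk]⟩
    have hAA := huni k (k * h) m1 m2
    rw [mul_smul, smul_left_cancel_iff] at hAA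
    rcases eq_or_ne w 0 with rfl | hw0
    · simpa using M.zero_mem
    have : h • w ∈ h • A := Set.smul_mem_smul_set ⟨hw, hw0⟩
    rw [← hAA] at this
    exact this.1
  have hperp : ∀ u ∈ M, u ≠ 0 → (∀ w ∈ M, ∃ t : F, w = t • u) ∨ ∀ x, B u x = 0 → x ∈ M := by
    intro u hu hu0
    by_cases hl : ∀ w ∈ M, ∃ t : F, w = t • u
    · exact Or.inl hl
    push Not at hl
    obtain ⟨w, hw, hwu⟩ := hl
    right
    intro x hx
    by_cases hc : B u w = 0
    · have hall : ∀ y, B u y = 0 → (∀ t : F, y ≠ t • u) → y ∈ M := by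
        intro y hy hyu
        obtain ⟨g, -, hgu, hgw⟩ := exists_TG_fix hB hu0 (hc.trans hy.symm) (Or.inr ⟨hwu, hyu⟩)
        exact hgw ▸ hfix u hu hu0 g hgu w hw
      by_cases hxu : ∀ t : F, x ≠ t • u
      · exact hall x hx hxu
      push Not at hxu
      obtain ⟨t, rfl⟩ := hxu
      have := hall (w + t • u) (by simp [hc, hB.self]) fun s hs =>
        hwu (s - t) (by rw [sub_smul, ← hs, add_sub_cancel_right])
      simpa using M.sub_mem this hw
    · obtain ⟨g, -, hgu, hgw⟩ := exists_TG_fix hB hu0 (v := w) (v' := w + x)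
        (by rw [map_add, hx, add_zero]) (Or.inl hc)
      have h := M.sub_mem (hgw ▸ hfix u hu hu0 g hgu w hw) hw
      rwa [add_sub_cancel_left] at h
  by_contra hcon
  push Not at hcon
  obtain ⟨hne, hline⟩ := hcon
  have hall : ∀ u ∈ M, u ≠ 0 → ∀ x, B u x = 0 → x ∈ M := fun u hu hu0 =>
    (hperp u hu hu0).resolve_left fun h => by
      obtain ⟨w, hw, hwu⟩ := hline u hu0
      obtain ⟨t, ht⟩ := h w hw
      exact hwu t ht
  obtain ⟨u, hu, hu0⟩ := M.bot_or_exists_ne_zero.resolve_left hM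
  refine hne (eq_top_iff.2 fun x _ => ?_)
  obtain ⟨w, hw, hwu⟩ := hline u hu0
  obtain ⟨v, hv, hvu⟩ : ∃ v ∈ M, B u v ≠ 0 := by
    by_cases hc : B u w = 0
    · obtain ⟨y, hy1, hy2⟩ := hB.exists_perp_ne_zero hu0 hwu
      obtain ⟨z, hz⟩ := hB.exists_eq_one hu0
      have hw0 : w ≠ 0 := fun h => hwu 0 (by simp [h])
      refine ⟨z - (B w z / B w y) • y, hall w hw hw0 _ ?_, ?_⟩
      · simp only [map_sub, map_smul, smul_eq_mul]
        field_simp
        ring
      · simp [hz, hy1]
    · exact ⟨w, hw, hc⟩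
  have hv0 : v ≠ 0 := fun h => hvu (by simp [h])
  have h1 : (B v x / B v u) • u ∈ M := hall u hu hu0 _ (by simp [hB.self])
  have hvu' : B v u ≠ 0 := mt hB.comm_eq_zero.1 hvu
  have h2 : x - (B v x / B v u) • u ∈ M := hall v hv hv0 _ (by
    simp only [map_sub, map_smul, smul_eq_mul]
    field_simp
    ring)
  simpa using M.add_mem h2 h1

end Cfsg.Agent.Lib.MinIndexSp
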