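import Mathlib
import Cfsg.Agent.Lib.MinIndexSp.Core
import Cfsg.Agent.Lib.Symplectic.Simple

/-!
Lib/MinIndexSp/Reducible: subgroups of a symplectic group leaving a proper non-zero subspace
invariant have index at least the number of points.
-/

set_option autoImplicit false
set_option linter.unusedSectionVars false

namespace Cfsg.Agent.Lib.MinIndexSp

open Module Cfsg.Agent.Lib.Symplectic Pointwise

variable {F : Type*} {V : Type*} [Field F] [AddCommGroup V] [Module F V] [FiniteDimensional F V]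
variable {B : V →ₗ[F] V →ₗ[F] F} (hB : IsSympForm B)

/-- The perpendicular of a subspace. -/
def oPerp (B : V →ₗ[F] V →ₗ[F] F) (U : Submodule F V) : Submodule F V :=
  (Submodule.dualAnnihilator U).comap B

theorem mem_oPerp {U : Submodule F V} {x : V} : x ∈ oPerp B U ↔ ∀ u ∈ U, B x u = 0 := by
  simp [oPerp, Submodule.mem_dualAnnihilator]

include hB

theorem finrank_oPerp (U : Submodule F V) :
    finrank F U + finrank F (oPerp B U) = finrank F V := by
  have hinj : Function.Injective B := fun x y h => sub_eq_zero.1 (hB.nondeg _ fun z => by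
    rw [map_sub, h, sub_self, LinearMap.zero_apply])
  let e : V ≃ₗ[F] Module.Dual F V :=
    LinearEquiv.ofInjectiveOfFinrankEq B hinj Subspace.dual_finrank_eq.symm
  have h2 : oPerp B U = (Submodule.dualAnnihilator U).map (e.symm : Module.Dual F V →ₗ[F] V) := by
    ext x
    constructor
    · intro hx; exact ⟨e x, hx, e.symm_apply_apply x⟩
    · rintro ⟨φ, hφ, rfl⟩
      show B (e.symm φ) ∈ Submodule.dualAnnihilator U
      rwa [show B (e.symm φ) = φ from e.apply_symm_apply φ]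
  rw [h2, LinearEquiv.finrank_map_eq]
  exact Subspace.finrank_add_finrank_dualAnnihilator_eq U

theorem le_oPerp_oPerp (U : Submodule F V) : U ≤ oPerp B (oPerp B U) := fun u hu =>
  mem_oPerp.2 fun x hx => hB.comm_eq_zero.1 (mem_oPerp.1 hx u hu)

theorem oPerp_oPerp (U : Submodule F V) : oPerp B (oPerp B U) = U := by
  refine (Submodule.eq_of_le_of_finrank_eq (le_oPerp_oPerp hB U) ?_).symm
  have h1 := finrank_oPerp hB U
  have h2 := finrank_oPerp hB (oPerp B U)
  omega

theorem restr_symp {W : Submodule F V} (h : ∀ x ∈ W, x ∈ oPerp B W → x = 0) :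
    IsSympForm (restr B W) where
  self x := hB.self _
  nondeg x hx := Subtype.ext (h x x.2 (mem_oPerp.2 fun y hy => hx ⟨y, hy⟩))

omit hB in
theorem stab_oPerp {U : Submodule F V} {g : Isom B} (hg : ∀ x ∈ U, g⁻¹ • x ∈ U) {x : V}
    (hx : x ∈ oPerp B U) : g • x ∈ oPerp B U :=
  mem_oPerp.2 fun u hu => by
    rw [isom_apply_smul_left]; exact mem_oPerp.1 hx _ (hg u hu)

omit hB in
theorem smul_set_eq {Ω : Type*} [MulAction (Isom B) Ω] {H : Subgroup (Isom B)} {A : Set Ω}
    (hA : ∀ h ∈ H, ∀ p ∈ A, h • p ∈ A) {h : Isom B} (hh : h ∈ H) : h • A = A := by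
  ext p
  rw [Set.mem_smul_set_iff_inv_smul_mem]
  exact ⟨fun hp => smul_inv_smul h p ▸ hA h hh _ hp, hA _ (H.inv_mem hh) p⟩

variable [Finite F]

/-- A subgroup leaving a non-degenerate subspace invariant has large index. -/
theorem index_ge_nondeg {H : Subgroup (Isom B)} {W : Submodule F V}
    (hWH : ∀ h ∈ H, ∀ x ∈ W, h • x ∈ W) (hnd : ∀ x ∈ W, x ∈ oPerp B W → x = 0) {m l : ℕ}
    (hl : finrank F W = 2 * l) (hl1 : 1 ≤ l) (hlm : l ≤ m) (hn : finrank F V = 2 * m) :
    Nat.card F ^ (4 * (m - l)) ≤ H.index := by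
  have : Finite V := Module.finite_of_finite F
  have : Finite (Isom B) := finite_isom
  set q := Nat.card F with hqd
  have hq : 2 ≤ q := Finite.one_lt_card
  set A : Set (V × V) := {p | p.1 ∈ W ∧ p.2 ∈ W ∧ B p.1 p.2 = 1}
  set T : Set (V × V) := {p | B p.1 p.2 = 1}
  have hT : T.ncard = (q ^ (2 * m) - 1) * q ^ (2 * m - 1) := by
    rw [← Nat.card_coe_set_eq, show T = {p | B p.1 p.2 = 1} from rfl]
    exact (card_hyperbolic_pairs hB hqd.symm).trans (by rw [hn])
  have hA : A.ncard = (q ^ (2 * l) - 1) * q ^ (2 * l - 1) := by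
    rw [← Nat.card_coe_set_eq, ← hl, ← card_hyperbolic_pairs (restr_symp hB hnd) hqd.symm]
    exact Nat.card_congr
      { toFun := fun p => ⟨(⟨p.1.1, p.2.1⟩, ⟨p.1.2, p.2.2.1⟩), p.2.2.2⟩
        invFun := fun p => ⟨(p.1.1, p.1.2), p.1.1.2, p.1.2.2, p.2⟩
        left_inv := fun p => rfl
        right_inv := fun p => rfl }
  obtain ⟨a, b, hab⟩ : ∃ a b : W, B (a : V) (b : V) = 1 := by
    have : Nontrivial W := Module.nontrivial_of_finrank_pos (R := F) (by omega)
    obtain ⟨a, ha⟩ := exists_ne (0 : W)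
    obtain ⟨b, hb⟩ := (restr_symp hB hnd).exists_eq_one ha
    exact ⟨a, b, hb⟩
  have key := card_le_index_mul (A := A) (T := T) (H := H)
    (fun h hh => smul_set_eq (A := A) (fun k hk p hp => ⟨hWH k hk _ hp.1, hWH k hk _ hp.2.1, by
      show B (k • p.1) (k • p.2) = 1
      rw [isom_apply_smul]; exact hp.2.2⟩) hh) fun t ht => by
      obtain ⟨g, -, h1, h2⟩ := exists_TG_hyperbolic hB hab (show B t.1 t.2 = 1 from ht)
      exact ⟨g, ((a : V), (b : V)), ⟨a.2, b.2, hab⟩, Prod.ext h1 h2⟩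
  rw [hT, hA] at key
  obtain ⟨d, rfl⟩ : ∃ d, m = l + d := ⟨m - l, by omega⟩
  rw [show 2 * (l + d) - 1 = 2 * d + (2 * l - 1) by omega, pow_add, ← mul_assoc, ← mul_assoc]
    at key
  rw [show 4 * (l + d - l) = 2 * d + 2 * d by omega, pow_add]
  have h1 := Nat.le_of_mul_le_mul_right key (pow_pos (by omega) _)
  have h2 : q ^ (2 * d) * (q ^ (2 * l) - 1) ≤ q ^ (2 * (l + d)) - 1 := by
    rw [Nat.mul_sub, mul_one, ← pow_add, show 2 * d + 2 * l = 2 * (l + d) by omega]
    exact Nat.sub_le_sub_left (Nat.one_le_pow _ _ (by omega)) _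
  have h3 := (Nat.mul_le_mul_right (q ^ (2 * d)) h2).trans h1
  refine Nat.le_of_mul_le_mul_right ?_
    (Nat.sub_pos_of_lt (Nat.one_lt_pow (by omega : 2 * l ≠ 0) (by omega : 1 < q)))
  calc q ^ (2 * d) * q ^ (2 * d) * (q ^ (2 * l) - 1)
      = q ^ (2 * d) * (q ^ (2 * l) - 1) * q ^ (2 * d) := by ring
    _ ≤ _ := h3

omit hB in
theorem ncard_indep_pairs (W : Submodule F V) (K : V → Submodule F V) (c : ℕ)
    (hK : ∀ a ∈ W, a ≠ 0 → a ∈ K a ∧ finrank F (K a) = c) :
    {p : V × V | p.1 ∈ W ∧ p.1 ≠ 0 ∧ p.2 ∈ K p.1 ∧ ∀ t : F, p.2 ≠ t • p.1}.ncard =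
      (Nat.card F ^ finrank F W - 1) * (Nat.card F ^ c - Nat.card F) := by
  classical
  have : Finite V := Module.finite_of_finite F
  have : Fintype V := Fintype.ofFinite V
  rw [← Nat.card_coe_set_eq]
  let e : {p : V × V | p.1 ∈ W ∧ p.1 ≠ 0 ∧ p.2 ∈ K p.1 ∧ ∀ t : F, p.2 ≠ t • p.1} ≃
      Σ a : {a : V // a ∈ W ∧ a ≠ 0}, ((K a : Set V) \ (Submodule.span F ({(a : V)} : Set V))
        : Set V) :=
    { toFun := fun p => ⟨⟨p.1.1, p.2.1, p.2.2.1⟩, p.1.2, p.2.2.2.1, fun h => by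
        obtain ⟨t, ht⟩ := mem_span_singleton_iff_smul.1 h
        exact p.2.2.2.2 t ht⟩
      invFun := fun s => ⟨(s.1.1, s.2.1), s.1.2.1, s.1.2.2, s.2.2.1, fun t ht =>
        s.2.2.2 (mem_span_singleton_iff_smul.2 ⟨t, ht⟩)⟩
      left_inv := fun p => rfl
      right_inv := fun s => rfl }
  rw [Nat.card_congr e, Nat.card_sigma]
  have hfib : ∀ a : {a : V // a ∈ W ∧ a ≠ 0}, Nat.card (((K a : Set V) \
      (Submodule.span F ({(a : V)} : Set V)) : Set V)) = Nat.card F ^ c - Nat.card F := by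
    intro a
    obtain ⟨h1, h2⟩ := hK a a.2.1 a.2.2
    rw [Nat.card_coe_set_eq, Set.ncard_sdiff (by
      intro x hx
      obtain ⟨t, rfl⟩ := mem_span_singleton_iff_smul.1 hx
      exact (K a).smul_mem t h1), ← Nat.card_coe_set_eq, ← Nat.card_coe_set_eq]
    congr 1
    · exact (Module.natCard_eq_pow_finrank (K := F) (V := K a)).trans (by rw [h2])
    · exact (Module.natCard_eq_pow_finrank (K := F)
        (V := Submodule.span F ({(a : V)} : Set V))).trans
          (by rw [finrank_span_singleton a.2.2, pow_one])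
  rw [Finset.sum_congr rfl fun a _ => hfib a, Finset.sum_const, smul_eq_mul, Finset.card_univ,
    ← Nat.card_eq_fintype_card]
  congr 1
  rw [show Nat.card {a : V // a ∈ W ∧ a ≠ 0} = ((W : Set V) \ {0}).ncard from
      (Nat.card_coe_set_eq _).symm ▸ rfl,
    Set.ncard_sdiff_singleton_of_mem W.zero_mem, ← Nat.card_coe_set_eq]
  exact congrArg (· - 1) (Module.natCard_eq_pow_finrank (K := F) (V := W))

omit [Finite F] in
theorem finrank_ker_of_ne_zero {a : V} (ha : a ≠ 0) {n : ℕ} (hn : finrank F V = n) :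
    a ∈ LinearMap.ker (B a) ∧ finrank F (LinearMap.ker (B a)) = n - 1 := by
  refine ⟨hB.self a, ?_⟩
  have := Module.Dual.finrank_ker_add_one_of_ne_zero (hB.apply_ne_zero ha)
  omega

/-- A subgroup leaving a non-zero totally isotropic subspace invariant has index at least the
number of points. -/
theorem index_ge_isotropic {H : Subgroup (Isom B)} {R : Submodule F V}
    (hRH : ∀ h ∈ H, ∀ x ∈ R, h • x ∈ R) (hR0 : R ≠ ⊥) (hiso : R ≤ oPerp B R) {m : ℕ}
    (hm : 2 ≤ m) (hn : finrank F V = 2 * m) :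
    Nat.card F ^ (2 * m) ≤ H.index * (Nat.card F - 1) + 1 := by
  classical
  have : Finite V := Module.finite_of_finite F
  have : Finite (Isom B) := finite_isom
  set q := Nat.card F with hqd
  have hq : 2 ≤ q := Finite.one_lt_card
  have hisoB : ∀ x ∈ R, ∀ y ∈ R, B x y = 0 := fun x hx y hy => mem_oPerp.1 (hiso hx) y hy
  set k := finrank F R with hkd
  have hk1 : 1 ≤ k := Submodule.one_le_finrank_iff.2 hR0
  have hkm : k ≤ m := by
    have h1 := finrank_oPerp hB R
    have h2 := Submodule.finrank_mono hiso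
    omega
  obtain ⟨N, hN⟩ : ∃ N, q ^ (2 * m) = N + 1 := ⟨q ^ (2 * m) - 1, by
    have := Nat.one_le_pow (2 * m) q (by omega); omega⟩
  rw [hN]
  refine Nat.add_le_add_right ?_ 1
  obtain ⟨a0, ha0, ha00⟩ := Submodule.exists_mem_ne_zero_of_ne_bot hR0
  rcases Nat.lt_or_ge k 2 with hk | hk
  · -- a point
    have hk' : k = 1 := by omega
    have key := card_le_index_mul (H := H) (A := (R : Set V) \ {0}) (T := ({0} : Set V)ᶜ)
      (fun h hh => smul_set_eq (A := (R : Set V) \ {0}) (fun g hg p hp => ⟨hRH g hg p hp.1, isom_smul_ne_zero g hp.2⟩) hh)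
      fun u hu => by
        obtain ⟨g, hg⟩ := exists_smul_eq_of_ne_zero hB ha00 hu
        exact ⟨g, a0, ⟨ha0, ha00⟩, hg⟩
    rw [Set.ncard_compl, Set.ncard_singleton, Set.ncard_sdiff_singleton_of_mem R.zero_mem,
      ← Nat.card_coe_set_eq (R : Set V)] at key
    rw [show Nat.card (R : Set V) = q ^ k from Module.natCard_eq_pow_finrank (K := F) (V := R),
      Module.natCard_eq_pow_finrank (K := F) (V := V), hn, ← hqd, hN, hk', pow_one,
      Nat.add_sub_cancel] at key
    exact key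
  -- independent orthogonal pairs
  set A : Set (V × V) := {p | p.1 ∈ R ∧ p.1 ≠ 0 ∧ p.2 ∈ R ∧ ∀ t : F, p.2 ≠ t • p.1}
  set T : Set (V × V) :=
    {p | p.1 ∈ (⊤ : Submodule F V) ∧ p.1 ≠ 0 ∧ p.2 ∈ LinearMap.ker (B p.1) ∧
      ∀ t : F, p.2 ≠ t • p.1}
  have hA : A.ncard = (q ^ k - 1) * (q ^ k - q) :=
    ncard_indep_pairs R (fun _ => R) k fun a ha _ => ⟨ha, rfl⟩
  have hT : T.ncard = N * (q ^ (2 * m - 1) - q) := by
    rw [ncard_indep_pairs ⊤ (fun a => LinearMap.ker (B a)) (2 * m - 1)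
      fun a _ ha => finrank_ker_of_ne_zero hB ha hn, finrank_top, hn, ← hqd, hN,
      Nat.add_sub_cancel]
  have hstab : ∀ h ∈ H, h • A = A := fun h hh => smul_set_eq (A := A)
    (fun g hg p hp => ⟨hRH g hg _ hp.1, isom_smul_ne_zero g hp.2.1, hRH g hg _ hp.2.2.1,
      fun t ht => hp.2.2.2 t (by
        have := congrArg (g⁻¹ • ·) (show g • p.2 = t • (g • p.1) from ht)
        simpa [smul_comm g⁻¹ t] using this)⟩) hh
  obtain ⟨b0, hb0, hb0'⟩ := exists_not_mem_of_finrank_lt R (Submodule.span F ({a0} : Set V))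
    (by rw [finrank_span_singleton ha00]; omega)
  have hb0t : ∀ t : F, b0 ≠ t • a0 := fun t ht =>
    hb0' (mem_span_singleton_iff_smul.2 ⟨t, ht⟩)
  have hmove : ∀ t ∈ T, ∃ g : Isom B, g • a0 = t.1 ∧ g • b0 = t.2 := by
    rintro t ⟨-, ht1, ht2, ht3⟩
    obtain ⟨g, -, h1, h2⟩ := exists_TG_pair hB ha00 ht1
      ((hisoB a0 ha0 b0 hb0).trans (LinearMap.mem_ker.1 ht2).symm) (Or.inr ⟨hb0t, ht3⟩)
    exact ⟨g, h1, h2⟩
  have hpA : (a0, b0) ∈ A := ⟨ha0, ha00, hb0, hb0t⟩
  have hsmall : q * (q ^ (2 * m - 1)) = N + 1 := by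
    rw [← pow_succ', show 2 * m - 1 + 1 = 2 * m by omega, hN]
  rcases Nat.lt_or_ge k 3 with hk3 | hk3
  · -- a line
    have hk' : k = 2 := by omega
    have key := card_le_index_mul (T := T) hstab fun t ht => by
      obtain ⟨g, h1, h2⟩ := hmove t ht
      exact ⟨g, (a0, b0), hpA, Prod.ext h1 h2⟩
    rw [hA, hT, hk'] at key
    obtain ⟨r, hr⟩ : ∃ r, q = r + 1 := ⟨q - 1, by omega⟩
    rw [hr, Nat.add_sub_cancel]
    refine Nat.le_of_mul_le_mul_right ?_ (show 0 < q * (q * q - 1) from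
      Nat.mul_pos (by omega) (Nat.sub_pos_of_lt (by nlinarith)))
    have hge : q * (q * q - 1) ≤ q ^ (2 * m - 1) - q := by
      rw [Nat.mul_sub, mul_one]
      refine Nat.sub_le_sub_right ?_ q
      rw [show q * (q * q) = q ^ 3 by ring]
      exact Nat.pow_le_pow_right (by omega) (by omega)
    calc N * (q * (q * q - 1)) ≤ H.index * ((q ^ 2 - 1) * (q ^ 2 - q)) :=
          (Nat.mul_le_mul_left N hge).trans key
      _ = H.index * r * (q * (q * q - 1)) := by
          rw [show q ^ 2 - q = q * r by rw [hr, sq, ← Nat.mul_sub_one]; simp, sq]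
          ring
  · -- larger subspaces
    obtain ⟨r0, hr0, hr0'⟩ := exists_not_mem_of_finrank_lt R (Submodule.span F ({a0, b0} : Set V))
      (by
        have hspan : finrank F (Submodule.span F ({a0, b0} : Set V)) ≤ 2 := by
          refine (finrank_span_le_card _).trans ?_
          rw [Set.toFinset_insert, Set.toFinset_singleton]
          exact Finset.card_le_two
        omega)
    set S := Submodule.span F ({a0, b0} : Set V)
    obtain ⟨x, hx, hrx⟩ : ∃ x ∈ oPerp B S, B r0 x ≠ 0 := by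
      by_contra hcon
      push Not at hcon
      exact hr0' (oPerp_oPerp hB S ▸ mem_oPerp.2 hcon : r0 ∈ S)
    have hxR : x ∉ R := fun h => hrx (hisoB r0 hr0 x h)
    set τ := transv hB x 1
    have hτ : ∀ y ∈ S, τ • y = y := fun y hy =>
      transv_fix hB (hB.comm_eq_zero.1 (mem_oPerp.1 hx y hy)) 1
    have hτr : τ • r0 ∉ R := by
      rw [transv_smul, one_mul]
      intro h
      exact hxR (by simpa [hrx] using R.smul_mem (B r0 x)⁻¹ (sub_mem h hr0))
    have hr0t : r0 ≠ 0 := fun h => hr0' (h ▸ S.zero_mem)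
    have key := two_mul_card_le_index_mul (T := T) hstab fun t ht => by
      obtain ⟨g, h1, h2⟩ := hmove t ht
      refine ⟨g, g * τ, ⟨(a0, b0), hpA, Prod.ext h1 h2⟩, ⟨(a0, b0), hpA, ?_⟩, ?_⟩
      · exact Prod.ext (by show (g * τ) • a0 = t.1
                           rw [mul_smul, hτ a0 (Submodule.subset_span (by simp)), h1])
          (by show (g * τ) • b0 = t.2
              rw [mul_smul, hτ b0 (Submodule.subset_span (by simp)), h2])
      · rw [mul_smul, Ne, smul_left_cancel_iff]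
        intro hAA
        obtain ⟨b1, hb1, hb1'⟩ := exists_not_mem_of_finrank_lt R (Submodule.span F ({r0} : Set V))
          (by rw [finrank_span_singleton hr0t]; omega)
        have hmem : τ • (r0, b1) ∈ τ • A := Set.smul_mem_smul_set ⟨hr0, hr0t, hb1,
          fun t ht => hb1' (mem_span_singleton_iff_smul.2 ⟨t, ht⟩)⟩
        rw [← hAA] at hmem
        exact hτr hmem.1
    rw [hA, hT] at key
    obtain ⟨P, hP⟩ : ∃ P, q ^ (2 * m - 1) = P + q := ⟨q ^ (2 * m - 1) - q, by
      have := Nat.le_self_pow (show 2 * m - 1 ≠ 0 by omega) q; omega⟩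
    rw [hP, Nat.add_sub_cancel] at key
    have hPpos : 0 < P := by
      rcases Nat.eq_zero_or_pos P with h | h
      · rw [h, zero_add] at hP
        have : q ^ 1 < q ^ (2 * m - 1) := Nat.pow_lt_pow_right (by omega) (by omega)
        rw [pow_one] at this
        omega
      · exact h
    refine Nat.le_of_mul_le_mul_right ?_ (Nat.mul_pos (show 0 < 2 by omega) hPpos)
    have hup : (q ^ k - 1) * (q ^ k - q) ≤ (q - 1) * (2 * P) := by
      have h1 : (q ^ k - 1) * (q ^ k - q) ≤ (q ^ m - 1) * (q ^ m - q) :=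
        Nat.mul_le_mul (Nat.sub_le_sub_right (Nat.pow_le_pow_right (by omega) hkm) _)
          (Nat.sub_le_sub_right (Nat.pow_le_pow_right (by omega) hkm) _)
      refine h1.trans ?_
      have e2 : q * (P + q) = q ^ m * q ^ m := by
        rw [← hP, ← pow_succ', ← pow_add]; congr 1; omega
      have e3 : q * q * q ≤ q ^ m := by
        rw [show q * q * q = q ^ 3 by ring]; exact Nat.pow_le_pow_right (by omega) (by omega)
      obtain ⟨r, hr⟩ : ∃ r, q = r + 2 := ⟨q - 2, by omega⟩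
      obtain ⟨z, hz⟩ : ∃ z, q ^ m = z + q := ⟨q ^ m - q, by
        have := Nat.le_self_pow (show m ≠ 0 by omega) q; omega⟩
      rw [hz, Nat.add_sub_cancel, show z + q - 1 = z + r + 1 by omega]
      rw [hz] at e2 e3
      rw [show q - 1 = r + 1 by omega]
      rw [hr] at e2 e3
      nlinarith
    calc N * (2 * P) = 2 * (N * P) := by ring
      _ ≤ H.index * ((q ^ k - 1) * (q ^ k - q)) := key
      _ ≤ H.index * ((q - 1) * (2 * P)) := Nat.mul_le_mul_left _ hup
      _ = H.index * (q - 1) * (2 * P) := by ring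

/-- A subgroup leaving a proper non-zero subspace invariant has index at least the number of
points. -/
theorem index_ge_reducible {H : Subgroup (Isom B)} {U : Submodule F V}
    (hUH : ∀ h ∈ H, ∀ x ∈ U, h • x ∈ U) (h0 : U ≠ ⊥) (h1 : U ≠ ⊤) {m : ℕ} (hm : 2 ≤ m)
    (hn : finrank F V = 2 * m) :
    Nat.card F ^ (2 * m) ≤ H.index * (Nat.card F - 1) + 1 := by
  have hUP : ∀ h ∈ H, ∀ x ∈ oPerp B U, h • x ∈ oPerp B U := fun h hh x hx =>
    stab_oPerp (fun y hy => hUH _ (H.inv_mem hh) y hy) hx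
  by_cases hR : U ⊓ oPerp B U = ⊥
  · have hnd : ∀ x ∈ U, x ∈ oPerp B U → x = 0 := fun x h h' =>
      (Submodule.mem_bot F).1 (hR ▸ ⟨h, h'⟩)
    have hnd' : ∀ x ∈ oPerp B U, x ∈ oPerp B (oPerp B U) → x = 0 := fun x h h' =>
      hnd x (oPerp_oPerp hB U ▸ h') h
    obtain ⟨a, ha⟩ := even_finrank (restr_symp hB hnd)
    obtain ⟨b, hb⟩ := even_finrank (restr_symp hB hnd')
    have hsum := finrank_oPerp hB U
    have ha1 : 1 ≤ finrank F U := Submodule.one_le_finrank_iff.2 h0
    have hb1 : finrank F U < finrank F V := Submodule.finrank_lt h1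
    obtain ⟨W, l, hW, hWnd, hlf, hl1, hl2⟩ : ∃ (W : Submodule F V) (l : ℕ),
        (∀ h ∈ H, ∀ x ∈ W, h • x ∈ W) ∧ (∀ x ∈ W, x ∈ oPerp B W → x = 0) ∧
        finrank F W = 2 * l ∧ 1 ≤ l ∧ 2 * l ≤ m := by
      rcases le_or_gt (2 * a) m with h | h
      · exact ⟨U, a, hUH, hnd, by omega, by omega, h⟩
      · exact ⟨oPerp B U, b, hUP, hnd', by omega, by omega, by omega⟩
    have key := index_ge_nondeg hB hW hWnd hlf hl1 (by omega) hn
    have hq : 2 ≤ Nat.card F := Finite.one_lt_card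
    calc Nat.card F ^ (2 * m) ≤ Nat.card F ^ (4 * (m - l)) :=
          Nat.pow_le_pow_right (by omega) (by omega)
      _ ≤ H.index := key
      _ ≤ H.index * (Nat.card F - 1) := Nat.le_mul_of_pos_right _ (by omega)
      _ ≤ _ := Nat.le_succ _
  · refine index_ge_isotropic hB (R := U ⊓ oPerp B U)
      (fun h hh x hx => ⟨hUH h hh x hx.1, hUP h hh x hx.2⟩) hR ?_ hm hn
    intro x hx
    exact mem_oPerp.2 fun y hy => mem_oPerp.1 hx.2 y hy.1

end Cfsg.Agent.Lib.MinIndexSp
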