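import Mathlib
import Cfsg.Agent.Lib.MinIndexSp.Reducible

/-!
Lib/MinIndexSp/Full: a proper subgroup containing a complete root group of transvections, at least
three scalars: it leaves a subspace invariant or permutes an orthogonal decomposition.
-/

set_option autoImplicit false
set_option linter.unusedSectionVars false

namespace Cfsg.Agent.Lib.MinIndexSp

open Module Cfsg.Agent.Lib.Symplectic Pointwise

variable {F : Type*} {V : Type*} [Field F] [AddCommGroup V] [Module F V] [FiniteDimensional F V]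
variable {B : V →ₗ[F] V →ₗ[F] F} (hB : IsSympForm B) (H : Subgroup (Isom B))

/-- The vectors of the complete root groups in `H`. -/
def fullSet : Set V := {a | a ≠ 0 ∧ ∀ c : F, transv hB a c ∈ H}

/-- Every non-radical vector of `W` carries a complete root group. -/
def Good (W : Submodule F V) : Prop :=
  ∀ x ∈ W, (∃ y ∈ W, B x y ≠ 0) → x ∈ fullSet hB H

variable {H}

theorem fullSet_smul {a : V} (ha : a ∈ fullSet hB H) {t : F} (ht : t ≠ 0) :
    t • a ∈ fullSet hB H :=
  ⟨smul_ne_zero ht ha.1, fun c => by rw [transv_vec_smul]; exact ha.2 _⟩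

theorem fullSet_move {a : V} (ha : a ∈ fullSet hB H) {g : Isom B} (hg : g ∈ H) :
    g • a ∈ fullSet hB H :=
  ⟨isom_smul_ne_zero g ha.1, fun c => by
    rw [← transv_conj]; exact H.mul_mem (H.mul_mem hg (ha.2 c)) (H.inv_mem hg)⟩

theorem fullSet_add {a b : V} (ha : a ∈ fullSet hB H) (hb : b ∈ fullSet hB H) (h : B b a ≠ 0)
    (t : F) : b + t • a ∈ fullSet hB H := by
  have := fullSet_move hB hb (ha.2 (t / B b a))
  rwa [transv_smul, div_mul_cancel₀ t h] at this

variable [Finite F]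

theorem exists_avoid_three (hq : 3 ≤ Nat.card F) {W A1 A2 A3 : Submodule F V}
    (h1 : A1 < W) (h2 : A2 < W) (h3 : A3 < W) : ∃ u ∈ W, u ∉ A1 ∧ u ∉ A2 ∧ u ∉ A3 := by
  have : Finite V := Module.finite_of_finite F
  by_contra hcon
  push Not at hcon
  have hcard : ∀ U : Submodule F V, ((U : Set V) \ {0}).ncard = Nat.card F ^ finrank F U - 1 := by
    intro U
    rw [Set.ncard_sdiff_singleton_of_mem U.zero_mem, ← Nat.card_coe_set_eq]
    exact congrArg (· - 1) (Module.natCard_eq_pow_finrank (K := F) (V := U))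
  have hsub : (W : Set V) \ {0} ⊆
      ((A1 : Set V) \ {0}) ∪ ((A2 : Set V) \ {0}) ∪ ((A3 : Set V) \ {0}) := by
    rintro u ⟨hu, hu0⟩
    by_cases m1 : u ∈ A1
    · exact Or.inl (Or.inl ⟨m1, hu0⟩)
    by_cases m2 : u ∈ A2
    · exact Or.inl (Or.inr ⟨m2, hu0⟩)
    exact Or.inr ⟨hcon u hu m1 m2, hu0⟩
  have key := (Set.ncard_le_ncard hsub (Set.toFinite _)).trans
    ((Set.ncard_union_le _ _).trans (Nat.add_le_add_right (Set.ncard_union_le _ _) _))
  rw [hcard, hcard, hcard, hcard] at key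
  have l1 := Submodule.finrank_lt_finrank_of_lt h1
  have l2 := Submodule.finrank_lt_finrank_of_lt h2
  have l3 := Submodule.finrank_lt_finrank_of_lt h3
  obtain ⟨k, hk⟩ : ∃ k, finrank F W = k + 1 := ⟨finrank F W - 1, by omega⟩
  have e : ∀ j, j < finrank F W → Nat.card F ^ j ≤ Nat.card F ^ k := fun j hj =>
    Nat.pow_le_pow_right (by omega) (by omega)
  have e1 := e _ l1
  have e2 := e _ l2
  have e3 := e _ l3
  rw [hk, pow_succ] at key
  have hp : 1 ≤ Nat.card F ^ k := Nat.one_le_pow _ _ (by omega)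
  have hp' : Nat.card F ^ k * 3 ≤ Nat.card F ^ k * Nat.card F := Nat.mul_le_mul_left _ hq
  have hp1 : 1 ≤ Nat.card F ^ finrank F A1 := Nat.one_le_pow _ _ (by omega)
  omega

include hB in
theorem exists_two_units (hq : 3 ≤ Nat.card F) :
    ∃ a b : F, a ≠ 0 ∧ b ≠ 0 ∧ a ≠ b := by
  classical
  have : Fintype F := Fintype.ofFinite F
  obtain ⟨x, -, hx⟩ : ∃ x ∈ (Finset.univ : Finset F), x ∉ ({0, 1} : Finset F) := by
    by_contra h
    push Not at h
    have := (Finset.card_le_card h).trans Finset.card_le_two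
    rw [Finset.card_univ, ← Nat.card_eq_fintype_card] at this
    omega
  simp only [Finset.mem_insert, Finset.mem_singleton, not_or] at hx
  exact ⟨x, 1, hx.1, one_ne_zero, hx.2⟩

/-- Adjoining a connected root vector. -/
theorem good_sup (hq : 3 ≤ Nat.card F) {W : Submodule F V} (hW : Good hB H W) {c : V}
    (hc : c ∈ fullSet hB H) (hcon : ∃ w0 ∈ W, (∃ y ∈ W, B w0 y ≠ 0) ∧ B w0 c ≠ 0) :
    Good hB H (W ⊔ Submodule.span F {c}) := by
  obtain ⟨w0, hw0, ⟨y0, hy0, hwy⟩, hwc⟩ := hcon
  obtain ⟨a, b, ha, hb, hab⟩ := exists_two_units hB hq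
  -- `w + γ c` with `γ ≠ 0`
  have hne : ∀ w ∈ W, ∀ γ : F, γ ≠ 0 →
      (∃ y ∈ W ⊔ Submodule.span F ({c} : Set V), B (w + γ • c) y ≠ 0) →
      w + γ • c ∈ fullSet hB H := by
    intro w hw γ hγ hy
    by_cases hd : (∃ y ∈ W, B w y ≠ 0) ∧ B w c ≠ 0
    · exact fullSet_add hB hc (hW w hw hd.1) hd.2 γ
    -- `z` pairs non-trivially with `W`
    obtain ⟨y1, hy1, hzy⟩ : ∃ y ∈ W, B (w + γ • c) y ≠ 0 := by
      by_contra hzW
      push Not at hzW
      obtain ⟨y, hy, hzy⟩ := hy
      obtain ⟨w', hw', _, hcc, rfl⟩ := Submodule.mem_sup.1 hy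
      obtain ⟨t, rfl⟩ := mem_span_singleton_iff_smul.1 hcc
      have hwc' : B w c ≠ 0 := fun h => hzy (by
        rw [map_add, hzW w' hw']; simp [h, hB.self])
      have hrad : ∀ y ∈ W, B w y = 0 := by
        by_contra h; push Not at h; exact hd ⟨h, hwc'⟩
      have := hzW w0 hw0
      rw [map_add, LinearMap.add_apply, hrad w0 hw0, map_smul, LinearMap.smul_apply, zero_add,
        smul_eq_mul, mul_eq_zero, or_iff_right hγ] at this
      exact hwc (hB.comm_eq_zero.1 this)
    -- avoid three hyperplanes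
    obtain ⟨u, hu, hu1, hu2, hu3⟩ := exists_avoid_three hq
      (W := W) (A1 := W ⊓ LinearMap.ker (B (w + γ • c))) (A2 := W ⊓ LinearMap.ker (B c))
      (A3 := W ⊓ oPerp B W)
      (lt_of_le_of_ne inf_le_left fun h => hzy (h.symm.le hy1).2)
      (lt_of_le_of_ne inf_le_left fun h => hwc (hB.comm_eq_zero.1 (h.symm.le hw0).2))
      (lt_of_le_of_ne inf_le_left fun h => hwy (mem_oPerp.1 (h.symm.le hw0).2 y0 hy0))
    have hu1' : B (w + γ • c) u ≠ 0 := fun h => hu1 ⟨hu, h⟩
    have hu2' : B c u ≠ 0 := fun h => hu2 ⟨hu, h⟩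
    have huN : ∃ y ∈ W, B u y ≠ 0 := by
      by_contra h; push Not at h; exact hu3 ⟨hu, mem_oPerp.2 h⟩
    obtain ⟨μ, hμN, hμc⟩ : ∃ μ : F, (∃ y ∈ W, B (w + μ • u) y ≠ 0) ∧ B (w + μ • u) c ≠ 0 := by
      have huc : B u c ≠ 0 := fun h => hu2' (hB.comm_eq_zero.1 h)
      have hlin : ∀ (μ : F) (x : V), B (w + μ • u) x = B w x + μ * B u x := fun μ x => by simp
      obtain ⟨y2, hy2, huy⟩ := huN
      by_cases hwN : ∃ y ∈ W, B w y ≠ 0
      · have hwc0 : B w c = 0 := by
          by_contra h; exact hd ⟨hwN, h⟩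
        by_cases h' : ∃ y ∈ W, B (w + a • u) y ≠ 0
        · exact ⟨a, h', by rw [hlin, hwc0, zero_add]; exact mul_ne_zero ha huc⟩
        · push Not at h'
          refine ⟨b, ⟨y2, hy2, fun hb0 => ?_⟩, by rw [hlin, hwc0, zero_add]; exact mul_ne_zero hb huc⟩
          have h1 := h' y2 hy2
          rw [hlin] at h1 hb0
          exact hab (mul_right_cancel₀ huy (by linear_combination h1 - hb0))
      · push Not at hwN
        have hN : ∀ μ : F, μ ≠ 0 → ∃ y ∈ W, B (w + μ • u) y ≠ 0 := fun μ hμ =>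
          ⟨y2, hy2, by rw [hlin, hwN y2 hy2, zero_add]; exact mul_ne_zero hμ huy⟩
        by_cases h' : B (w + a • u) c ≠ 0
        · exact ⟨a, hN a ha, h'⟩
        · push Not at h'
          refine ⟨b, hN b hb, fun hb0 => ?_⟩
          rw [hlin] at h' hb0
          exact hab (mul_right_cancel₀ huc (by linear_combination h' - hb0))
    have hz' : w + μ • u + γ • c ∈ fullSet hB H :=
      fullSet_add hB hc (hW _ (W.add_mem hw (W.smul_mem μ hu)) hμN) hμc γ
    have hzu : B (w + μ • u + γ • c) u ≠ 0 := by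
      rw [show w + μ • u + γ • c = (w + γ • c) + μ • u by abel, map_add, LinearMap.add_apply,
        map_smul, LinearMap.smul_apply, hB.self, smul_zero, add_zero]
      exact hu1'
    have := fullSet_add hB (hW u hu huN) hz' hzu (-μ)
    rwa [neg_smul, show w + μ • u + γ • c + -(μ • u) = w + γ • c by abel] at this
  intro x hx hy
  obtain ⟨w, hw, cc, hcc, rfl⟩ := Submodule.mem_sup.1 hx
  obtain ⟨γ, rfl⟩ := mem_span_singleton_iff_smul.1 hcc
  rcases eq_or_ne γ 0 with rfl | hγ
  · rw [zero_smul, add_zero] at hy ⊢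
    by_cases hN : ∃ y ∈ W, B w y ≠ 0
    · exact hW w hw hN
    push Not at hN
    obtain ⟨y, hy, hwy'⟩ := hy
    obtain ⟨w', hw', _, hcc', rfl⟩ := Submodule.mem_sup.1 hy
    obtain ⟨t, rfl⟩ := mem_span_singleton_iff_smul.1 hcc'
    have hwc' : B w c ≠ 0 := fun h => hwy' (by simp [hN w' hw', h])
    have h1 := hne w hw 1 one_ne_zero ⟨c, Submodule.mem_sup_right
      (Submodule.mem_span_singleton_self c), by simpa [hB.self] using hwc'⟩
    have h2 := fullSet_add hB hc h1 (by simpa [hB.self] using hwc') (-1)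
    simpa using h2
  · exact hne w hw γ hγ hy

include hB in
theorem good_pair {a b : V} (ha : a ∈ fullSet hB H) (hb : b ∈ fullSet hB H) (hab : B a b ≠ 0) :
    Good hB H (Submodule.span F ({a, b} : Set V)) := by
  intro x hx hy
  obtain ⟨s, t, rfl⟩ := Submodule.mem_span_pair.1 hx
  rcases eq_or_ne t 0 with rfl | ht
  · rw [zero_smul, add_zero] at hy ⊢
    refine fullSet_smul hB ha fun hs => ?_
    simp [hs] at hy
  · have h := fullSet_add hB ha (fullSet_smul hB hb ht)
      (by rw [map_smul, LinearMap.smul_apply, smul_eq_mul]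
          exact mul_ne_zero ht fun h => hab (hB.comm_eq_zero.1 h)) s
    rwa [add_comm] at h

include hB in
theorem span_block {S : Submodule F V} (hS : ∀ x ∈ S, ∀ y ∈ S, B x y = 0) (hn : S = ⊤)
    [Nontrivial V] : False := by
  obtain ⟨x, hx⟩ := exists_ne (0 : V)
  exact hx (hB.nondeg x fun y => hS x (hn ▸ Submodule.mem_top) y (hn ▸ Submodule.mem_top))

/-- A component: a proper subspace all whose non-zero vectors carry root groups and which meets or
is perpendicular to every root vector. -/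
structure IsBlock (H : Subgroup (Isom B)) (W : Submodule F V) : Prop where
  nd : ∀ x ∈ W, x ∈ oPerp B W → x = 0
  full : ∀ x ∈ W, x ≠ 0 → x ∈ fullSet hB H
  split : ∀ c ∈ fullSet hB H, c ∈ W ∨ c ∈ oPerp B W

/-- A component contains any two non-orthogonal root vectors. -/
theorem exists_block (hq : 3 ≤ Nat.card F) (hspan : Submodule.span F (fullSet hB H) = ⊤) {a b : V}
    (ha : a ∈ fullSet hB H) (hb : b ∈ fullSet hB H) (hab : B a b ≠ 0) :
    ∃ W : Submodule F V, IsBlock hB H W ∧ a ∈ W ∧ b ∈ W := by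
  classical
  let P : ℕ → Prop := fun d => ∃ W : Submodule F V, finrank F W = d ∧ Good hB H W ∧ a ∈ W ∧ b ∈ W
  have hP : P (finrank F (Submodule.span F ({a, b} : Set V))) := ⟨_, rfl, good_pair hB ha hb hab,
    Submodule.subset_span (by simp), Submodule.subset_span (by simp)⟩
  obtain ⟨W, hWd, hW, haW, hbW⟩ :=
    Nat.findGreatest_spec (P := P) (n := finrank F V) (Submodule.finrank_le _) hP
  have hmax : ∀ W' : Submodule F V, Good hB H W' → a ∈ W' → b ∈ W' → finrank F W' ≤ finrank F W :=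
    fun W' h1 h2 h3 => hWd ▸ Nat.le_findGreatest (Submodule.finrank_le _) ⟨W', rfl, h1, h2, h3⟩
  have hsplit : ∀ c ∈ fullSet hB H, c ∈ W ∨ c ∈ oPerp B W := by
    intro c hc
    by_contra hcon
    push Not at hcon
    obtain ⟨hcW, hcP⟩ := hcon
    by_cases hh : ∃ w0 ∈ W, (∃ y ∈ W, B w0 y ≠ 0) ∧ B w0 c ≠ 0
    · have hg := good_sup hB hq hW hc hh
      have hle := hmax _ hg (Submodule.mem_sup_left haW) (Submodule.mem_sup_left hbW)
      have hlt : W < W ⊔ Submodule.span F ({c} : Set V) := by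
        refine lt_of_le_of_ne le_sup_left fun h => hcW ?_
        rw [h]; exact Submodule.mem_sup_right (Submodule.mem_span_singleton_self c)
      have := Submodule.finrank_lt_finrank_of_lt hlt
      omega
    · push Not at hh
      refine hcP (mem_oPerp.2 fun w hw => hB.comm_eq_zero.1 ?_)
      have hac : B a c = 0 := hh a haW ⟨b, hbW, hab⟩
      by_cases hwN : ∃ y ∈ W, B w y ≠ 0
      · exact hh w hw hwN
      · push Not at hwN
        have := hh (w + a) (W.add_mem hw haW) ⟨b, hbW, by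
          rw [map_add, LinearMap.add_apply, hwN b hbW, zero_add]; exact hab⟩
        rwa [map_add, LinearMap.add_apply, hac, add_zero] at this
  have hnd : ∀ x ∈ W, x ∈ oPerp B W → x = 0 := fun x hx hxp => hB.nondeg x fun y => by
    have hle : Submodule.span F (fullSet hB H) ≤ LinearMap.ker (B x) := by
      refine Submodule.span_le.2 fun c hc => ?_
      rcases hsplit c hc with h | h
      · exact mem_oPerp.1 hxp c h
      · exact hB.comm_eq_zero.1 (mem_oPerp.1 h x hx)
    exact hle (hspan ▸ Submodule.mem_top)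
  refine ⟨W, ⟨hnd, fun x hx hx0 => hW x hx ?_, hsplit⟩, haW, hbW⟩
  by_contra h
  push Not at h
  exact hx0 (hnd x hx (mem_oPerp.2 h))

theorem IsBlock.eq_or_perp {W W' : Submodule F V} (hW : IsBlock hB H W) (hW' : IsBlock hB H W')
    (hne : W' ≠ W) : W' ≤ oPerp B W := by
  have key : ∀ {U U' : Submodule F V}, IsBlock hB H U → IsBlock hB H U' →
      U' ≤ U ∨ U' ≤ oPerp B U := by
    intro U U' hU hU'
    by_contra hcon
    push Not at hcon
    obtain ⟨x, hx, hxU⟩ := SetLike.not_le_iff_exists.1 hcon.1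
    obtain ⟨y, hy, hyU⟩ := SetLike.not_le_iff_exists.1 hcon.2
    have hsp : ∀ z ∈ U', z ∈ U ∨ z ∈ oPerp B U := fun z hz => by
      rcases eq_or_ne z 0 with rfl | hz0
      · exact Or.inl U.zero_mem
      · exact hU.split z (hU'.full z hz hz0)
    have hxP := (hsp x hx).resolve_left hxU
    have hyU' := (hsp y hy).resolve_right hyU
    rcases hsp _ (U'.add_mem hx hy) with h | h
    · exact hxU (by simpa using U.sub_mem h hyU')
    · exact hyU (by simpa using (oPerp B U).sub_mem h hxP)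
  rcases key hW hW' with h | h
  · rcases key hW' hW with h' | h'
    · exact absurd (le_antisymm h h') hne
    · intro x hx
      exact mem_oPerp.2 fun w hw => hB.comm_eq_zero.1 (mem_oPerp.1 (h' hw) x hx)
  · exact h

theorem IsBlock.move {W : Submodule F V} (hW : IsBlock hB H W) {g : Isom B} (hg : g ∈ H) :
    IsBlock hB H (W.map ((g : V ≃ₗ[F] V) : V →ₗ[F] V)) := by
  refine ⟨?_, ?_, ?_⟩
  · rintro _ ⟨x, hx, rfl⟩ hp
    have : x = 0 := hW.nd x hx (mem_oPerp.2 fun u hu => by
      have := mem_oPerp.1 hp (g • u) ⟨u, hu, rfl⟩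
      change B (g • x) (g • u) = 0 at this
      rwa [isom_apply_smul] at this)
    simp [this]
  · rintro _ ⟨x, hx, rfl⟩ hx0
    exact fullSet_move hB (hW.full x hx (fun h => hx0 (by simp [h]))) hg
  · intro c hc
    rcases hW.split _ (fullSet_move hB hc (H.inv_mem hg)) with h | h
    · exact Or.inl ⟨_, h, smul_inv_smul g c⟩
    · refine Or.inr (mem_oPerp.2 ?_)
      rintro _ ⟨u, hu, rfl⟩
      show B c (g • u) = 0
      rw [← inv_inv g, ← isom_apply_smul_left]
      exact mem_oPerp.1 h u hu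

include hB in
theorem finrank_sup_finset [DecidableEq (Submodule F V)] {d : ℕ} (S : Finset (Submodule F V))
    (hd : ∀ W ∈ S, finrank F W = d ∧ ∀ x ∈ W, x ∈ oPerp B W → x = 0)
    (hp : ∀ W ∈ S, ∀ W' ∈ S, W' ≠ W → W' ≤ oPerp B W) :
    finrank F (S.sup id : Submodule F V) = d * S.card := by
  induction S using Finset.induction_on with
  | empty => simp
  | insert W S hWS ih =>
    obtain ⟨hWd, hWn⟩ := hd W (Finset.mem_insert_self W S)
    have hle : S.sup id ≤ oPerp B W := Finset.sup_le fun W' hW' =>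
      hp W (Finset.mem_insert_self W S) W' (Finset.mem_insert_of_mem hW') fun h => hWS (h ▸ hW')
    have hinf : W ⊓ S.sup id = ⊥ := (Submodule.eq_bot_iff _).2 fun x hx => hWn x hx.1 (hle hx.2)
    have h := Submodule.finrank_sup_add_finrank_inf_eq W (S.sup id)
    rw [hinf, finrank_bot, add_zero, hWd, ih (fun U hU => hd U (Finset.mem_insert_of_mem hU))
      fun U hU U' hU' => hp U (Finset.mem_insert_of_mem hU) U' (Finset.mem_insert_of_mem hU')] at h
    rw [Finset.sup_insert, Finset.card_insert_of_notMem hWS, id_eq, h]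
    ring

/-- A proper subgroup with a complete root group has index at least the number of points. -/
theorem index_ge_full (hq : 3 ≤ Nat.card F) {m : ℕ} (hm : 2 ≤ m) (hn : finrank F V = 2 * m)
    (hne : H ≠ ⊤) {a : V} (ha : a ∈ fullSet hB H) :
    Nat.card F ^ (2 * m) ≤ H.index * (Nat.card F - 1) + 1 := by
  classical
  have : Finite V := Module.finite_of_finite F
  have : Finite (Isom B) := finite_isom
  by_cases hspan : Submodule.span F (fullSet hB H) = ⊤
  swap
  · refine index_ge_reducible hB (U := Submodule.span F (fullSet hB H)) (fun h hh x hx => ?_)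
      (fun h0 => ha.1 ((Submodule.mem_bot F).1 (h0 ▸ Submodule.subset_span ha))) hspan hm hn
    have hle : Submodule.span F (fullSet hB H) ≤
        (Submodule.span F (fullSet hB H)).comap ((h : V ≃ₗ[F] V) : V →ₗ[F] V) :=
      Submodule.span_le.2 fun c hc => Submodule.subset_span (fullSet_move hB hc hh)
    exact hle hx
  have hpartner : ∀ c ∈ fullSet hB H, ∃ b ∈ fullSet hB H, B c b ≠ 0 := by
    intro c hc
    by_contra hcon
    push Not at hcon
    have hle : Submodule.span F (fullSet hB H) ≤ LinearMap.ker (B c) := Submodule.span_le.2 hcon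
    exact hc.1 (hB.nondeg c fun y => hle (hspan ▸ Submodule.mem_top))
  -- a smallest component
  let P : ℕ → Prop := fun d => ∃ W : Submodule F V, finrank F W = d ∧ W ≠ ⊥ ∧ IsBlock hB H W
  have hP : ∃ d, P d := by
    obtain ⟨b, hb, hab⟩ := hpartner a ha
    obtain ⟨W, hW, haW, -⟩ := exists_block hB hq hspan ha hb hab
    exact ⟨_, W, rfl, fun h => ha.1 ((Submodule.mem_bot F).1 (h ▸ haW)), hW⟩
  obtain ⟨W, hWd, hW0, hW⟩ := Nat.find_spec hP
  have hWtop : W ≠ ⊤ := by
    rintro rfl
    refine hne (eq_top_iff.2 ?_)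
    rw [← TG_eq_top hB, TG, Subgroup.closure_le]
    rintro _ ⟨⟨x, c⟩, rfl⟩
    rcases eq_or_ne x 0 with rfl | hx
    · simp [H.one_mem]
    · exact (hW.full x Submodule.mem_top hx).2 c
  obtain ⟨l, hl⟩ := even_finrank (restr_symp hB hW.nd)
  have hl1 : 1 ≤ l := by
    have := Submodule.one_le_finrank_iff.2 hW0
    omega
  have hlm : 2 * l ≤ m := by
    obtain ⟨c, hc, hcW⟩ : ∃ c ∈ fullSet hB H, c ∉ W := by
      by_contra h
      push Not at h
      exact hWtop (top_le_iff.1 (hspan ▸ Submodule.span_le.2 h))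
    obtain ⟨b, hb, hcb⟩ := hpartner c hc
    obtain ⟨W', hW', hcW', -⟩ := exists_block hB hq hspan hc hb hcb
    have hperp := IsBlock.eq_or_perp hB hW hW' fun h => hcW (h ▸ hcW')
    have hmin : finrank F W ≤ finrank F W' := hWd ▸ Nat.find_min' hP
      ⟨W', rfl, fun h => hc.1 ((Submodule.mem_bot F).1 (h ▸ hcW')), hW'⟩
    have h1 := Submodule.finrank_mono hperp
    have h2 := finrank_oPerp hB W
    omega
  -- the stabiliser of the component
  let St : Subgroup (Isom B) :=
    { carrier := {g | g ∈ H ∧ W.map ((g : V ≃ₗ[F] V) : V →ₗ[F] V) = W}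
      one_mem' := ⟨H.one_mem, Submodule.map_id W⟩
      mul_mem' := fun {g g'} hg hg' => ⟨H.mul_mem hg.1 hg'.1, by
        rw [show ((g * g' : Isom B) : V ≃ₗ[F] V).toLinearMap =
          ((g : V ≃ₗ[F] V) : V →ₗ[F] V).comp ((g' : V ≃ₗ[F] V) : V →ₗ[F] V) from rfl,
          Submodule.map_comp, hg'.2, hg.2]⟩
      inv_mem' := fun {g} hg => ⟨H.inv_mem hg.1, by
        conv_lhs => rw [← hg.2, ← Submodule.map_comp]
        rw [show ((g⁻¹ : Isom B) : V ≃ₗ[F] V).toLinearMap.comp ((g : V ≃ₗ[F] V) : V →ₗ[F] V) =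
          LinearMap.id from LinearMap.ext fun x => inv_smul_smul g x, Submodule.map_id]⟩ }
  have hStH : St ≤ H := fun g hg => hg.1
  let S : Finset (Submodule F V) := (Set.toFinite ((fun g : Isom B =>
    W.map ((g : V ≃ₗ[F] V) : V →ₗ[F] V)) '' (H : Set (Isom B)))).toFinset
  have hmemS : ∀ {U}, U ∈ S → ∃ g ∈ H, W.map ((g : V ≃ₗ[F] V) : V →ₗ[F] V) = U := fun {U} hU => by
    simpa [S] using hU
  have hrel : St.relIndex H ≤ S.card := by
    rw [Subgroup.relIndex, Subgroup.index_eq_card, ← Set.ncard_coe_finset, ← Nat.card_coe_set_eq]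
    refine Nat.card_le_card_of_injective (fun x => (⟨W.map (((x.out : H) : Isom B) : V ≃ₗ[F] V).toLinearMap,
      by simp only [S, Set.Finite.coe_toFinset]; exact ⟨_, x.out.2, rfl⟩⟩ : (S : Set (Submodule F V)))) fun x y hxy => ?_
    rw [← QuotientGroup.out_eq' x, ← QuotientGroup.out_eq' y, QuotientGroup.eq]
    refine ⟨(x.out⁻¹ * y.out).2, ?_⟩
    have h1 := congrArg Subtype.val hxy
    simp only at h1
    set g := ((x.out : H) : Isom B)
    set g' := ((y.out : H) : Isom B)
    show W.map ((g⁻¹ * g' : Isom B) : V ≃ₗ[F] V).toLinearMap = W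
    rw [show ((g⁻¹ * g' : Isom B) : V ≃ₗ[F] V).toLinearMap =
        ((g⁻¹ : Isom B) : V ≃ₗ[F] V).toLinearMap.comp (g' : V ≃ₗ[F] V).toLinearMap from rfl,
      Submodule.map_comp, ← h1, ← Submodule.map_comp,
      show ((g⁻¹ : Isom B) : V ≃ₗ[F] V).toLinearMap.comp (g : V ≃ₗ[F] V).toLinearMap =
        LinearMap.id from LinearMap.ext fun z => inv_smul_smul g z, Submodule.map_id]
  have hS : 2 * l * S.card ≤ 2 * m := by
    rw [← hn, ← finrank_sup_finset hB S (d := 2 * l) (fun U hU => ?_) fun U hU U' hU' hne => ?_]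
    · exact Submodule.finrank_le _
    · obtain ⟨g, hg, rfl⟩ := hmemS hU
      exact ⟨by rw [LinearEquiv.finrank_map_eq]; omega, (hW.move hB hg).nd⟩
    · obtain ⟨g, hg, rfl⟩ := hmemS hU
      obtain ⟨g', hg', rfl⟩ := hmemS hU'
      exact IsBlock.eq_or_perp hB (hW.move hB hg) (hW.move hB hg') hne
  have key := index_ge_nondeg hB (H := St) (W := W) (fun g hg x hx => by
    have : g • x ∈ W.map ((g : V ≃ₗ[F] V) : V →ₗ[F] V) := ⟨x, hx, rfl⟩
    rwa [hg.2] at this) hW.nd (m := m) (l := l) (by omega) hl1 (by omega) hn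
  rw [← Subgroup.relIndex_mul_index hStH] at key
  set q := Nat.card F
  obtain ⟨d, hd⟩ : ∃ d, m = 2 * l + d := ⟨m - 2 * l, by omega⟩
  have hs : S.card ≤ 2 + d := by
    have : l * S.card ≤ 2 * l + d := by
      have h := hS; rw [mul_assoc] at h; omega
    nlinarith
  have hexp : S.card ≤ q ^ (2 * d) * (q - 1) := by
    have h2 : d < q ^ d := Nat.lt_pow_self (by omega)
    have h3 : q ^ d ≤ q ^ (2 * d) := Nat.pow_le_pow_right (by omega) (by omega)
    have h4 : 2 * q ^ (2 * d) ≤ q ^ (2 * d) * (q - 1) := by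
      rw [mul_comm 2]; exact Nat.mul_le_mul_left _ (by omega)
    omega
  refine Nat.le_succ_of_le ?_
  rw [show 4 * (m - l) = 2 * m + 2 * d by omega, pow_add] at key
  refine Nat.le_of_mul_le_mul_right ?_ (pow_pos (by omega : 0 < q) (2 * d))
  calc q ^ (2 * m) * q ^ (2 * d) ≤ St.relIndex H * H.index := key
    _ ≤ q ^ (2 * d) * (q - 1) * H.index := Nat.mul_le_mul_right _ (hrel.trans hexp)
    _ = H.index * (q - 1) * q ^ (2 * d) := by ring

end Cfsg.Agent.Lib.MinIndexSp
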