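import Mathlib
import Cfsg.Agent.Lib.MinIndexSp.Core
import Cfsg.Agent.Lib.Symplectic.Simple

/-!
Lib/MinIndexSp/Point: at every point a subgroup without complete root groups has large index or,
in even characteristic, meets every coset of the root group in the Siegel group.
-/

set_option autoImplicit false
set_option linter.unusedSectionVars false

namespace Cfsg.Agent.Lib.MinIndexSp

open Module Cfsg.Agent.Lib.Symplectic

variable {F : Type*} {V : Type*} [Field F] [Finite F] [AddCommGroup V] [Module F V]
variable [FiniteDimensional F V]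
variable {B : V →ₗ[F] V →ₗ[F] F} (hB : IsSympForm B)
variable {e f : V} (hef : B e f = 1)

theorem exists_char (Z : AddSubgroup F) (hZ : Z ≠ ⊤) :
    ∃ ψ : AddChar F ℂ, ψ.IsPrimitive ∧ ∀ c ∈ Z, ψ c = 1 := by
  obtain ⟨x, hx⟩ : ∃ x : F, x ∉ Z := by
    by_contra h
    push Not at h
    exact hZ (eq_top_iff.2 fun y _ => h y)
  obtain ⟨φ, hφ⟩ := (AddChar.exists_apply_ne_zero (α := F ⧸ Z)).2
    (show (QuotientAddGroup.mk x : F ⧸ Z) ≠ 0 by rwa [Ne, QuotientAddGroup.eq_zero_iff])
  refine ⟨φ.compAddMonoidHom (QuotientAddGroup.mk' Z), AddChar.IsPrimitive.of_ne_one fun h => hφ ?_,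
    fun c hc => ?_⟩
  · have := DFunLike.congr_fun h x
    simpa using this
  · rw [AddChar.compAddMonoidHom_apply, QuotientAddGroup.mk'_apply,
      (QuotientAddGroup.eq_zero_iff c).2 hc, AddChar.map_zero_eq_one]

theorem NoFull.zset_ne_top {K : Subgroup (Isom B)} (h : NoFull hB K) {e : V} (he : e ≠ 0) :
    zset hB e K ≠ ⊤ := by
  obtain ⟨c, hc⟩ := h e he
  exact fun ht => hc (ht ▸ AddSubgroup.mem_top c : c ∈ zset hB e K)

include hB hef in
theorem e_ne_zero : e ≠ 0 := fun h => by simp [h] at hef

include hB in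
theorem card_perp {m : ℕ} (hm : 1 ≤ m) (hn : finrank F V = 2 * m) (hef : B e f = 1) :
    finrank F (pairPerp B e f) = 2 * m - 2 ∧
      Nat.card (pairPerp B e f) = Nat.card F ^ (2 * m - 2) := by
  have h := finrank_pairPerp hB hef
  have h1 : finrank F (pairPerp B e f) = 2 * m - 2 := by omega
  exact ⟨h1, by rw [Module.natCard_eq_pow_finrank (K := F), h1]⟩

include hef in
/-- A full line as annihilator: `L` is the perpendicular of the line. -/
theorem lset_eq_ker {ψ : AddChar F ℂ} (hψ : ψ.IsPrimitive) {K : Subgroup (Isom B)}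
    {u : pairPerp B e f} (hu : u ≠ 0)
    (hline : ∀ w ∈ ann ψ (lset hB e f K), ∃ t : F, w = t • u)
    (hcard : Nat.card (ann ψ (lset hB e f K)) = Nat.card F) (l : pairPerp B e f) :
    l ∈ lset hB e f K ↔ B (u : V) (l : V) = 0 := by
  have : Finite (pairPerp B e f) := Module.finite_of_finite F
  set L := lset hB e f K
  have hall : ∀ t : F, t • u ∈ ann ψ L := by
    have hinj : Function.Injective (fun w : ann ψ L => (hline _ w.2).choose) := fun a b h => by
      apply Subtype.ext
      rw [(hline _ a.2).choose_spec, (hline _ b.2).choose_spec]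
      exact congrArg (· • u) h
    have hb := hinj.bijective_of_nat_card_le (le_of_eq hcard.symm)
    intro t
    obtain ⟨w, hw⟩ := hb.2 t
    have hw' := (hline _ w.2).choose_spec
    simp only at hw
    rw [hw] at hw'
    exact hw' ▸ w.2
  let φ := restr B (pairPerp B e f) u
  let W : AddSubgroup (pairPerp B e f) := (LinearMap.ker φ).toAddSubgroup
  have hle : L ≤ W := by
    intro x hx
    show φ x = 0
    by_contra hne
    refine hψ hne (DFunLike.ext _ _ fun t => ?_)
    have := hall t x hx
    rw [AddChar.mulShift_apply, AddChar.one_apply]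
    simpa [φ, mul_comm] using this
  have hφ : φ ≠ 0 := (restr_pairPerp hB hef).apply_ne_zero hu
  have hLc : Nat.card L * Nat.card F = Nat.card (pairPerp B e f) := by
    rw [← hcard, card_ann hB hef ψ hψ, AddSubgroup.card_mul_index]
  have hWc : Nat.card W * Nat.card F = Nat.card (pairPerp B e f) := by
    show Nat.card (LinearMap.ker φ) * _ = _
    rw [Module.natCard_eq_pow_finrank (K := F) (V := LinearMap.ker φ),
      Module.natCard_eq_pow_finrank (K := F) (V := pairPerp B e f), ← pow_succ,
      Module.Dual.finrank_ker_add_one_of_ne_zero hφ]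
  have hF : 0 < Nat.card F := Nat.card_pos
  have heq : L = W := AddSubgroup.eq_of_le_of_card_ge hle
    (le_of_eq (Nat.eq_of_mul_eq_mul_right hF (hWc.trans hLc.symm)))
  rw [heq]
  exact Iff.rfl

/-- `q - 1` times an index bound. -/
theorem bound_of_le {q v n a : ℕ} (hn : a ≤ n) (ha : q * q * v ≤ a * (q - 1) + 1) :
    q * q * v ≤ n * (q - 1) + 1 :=
  ha.trans (Nat.add_le_add_right (Nat.mul_le_mul_right _ hn) 1)

/-- Arithmetic: two translates. -/
theorem arith_two {q v : ℕ} (hq : 3 ≤ q) (hv : q * q ≤ v) :
    q * q * v ≤ (q + 2) * (v - 1) * (q - 1) + 1 := by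
  obtain ⟨r, rfl⟩ : ∃ r, q = r + 3 := ⟨q - 3, by omega⟩
  obtain ⟨w, rfl⟩ : ∃ w, v = w + 1 := ⟨v - 1, by
    have : 0 < v := lt_of_lt_of_le (Nat.mul_pos (by omega) (by omega)) hv
    omega⟩
  rw [Nat.add_sub_cancel, show r + 3 - 1 = r + 2 from rfl]
  have h1 : (r + 3) * (r + 3) ≤ (r + 1) * w + 1 := by nlinarith [Nat.zero_le (r * w)]
  nlinarith

/-- Arithmetic: two translates, even characteristic. -/
theorem arith_two_even {q v : ℕ} (hq : 4 ≤ q) (hv : q * q ≤ v) :
    q * q * v ≤ q * (2 * (v - 1)) * (q - 1) + 1 := by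
  obtain ⟨r, rfl⟩ : ∃ r, q = r + 4 := ⟨q - 4, by omega⟩
  obtain ⟨w, rfl⟩ : ∃ w, v = w + 1 := ⟨v - 1, by
    have : 0 < v := lt_of_lt_of_le (Nat.mul_pos (by omega) (by omega)) hv
    omega⟩
  rw [Nat.add_sub_cancel, show r + 4 - 1 = r + 3 from rfl]
  have h1 : r + 4 ≤ (r + 2) * w := by nlinarith
  have h2 := Nat.mul_le_mul_left (r + 4) h1
  nlinarith

/-- Arithmetic: trivial image, a doubled orbit. -/
theorem arith_full {q v : ℕ} (hq : 2 ≤ q) : q * q * v ≤ 2 * (q * v) * (q - 1) + 1 := by
  obtain ⟨r, rfl⟩ : ∃ r, q = r + 2 := ⟨q - 2, by omega⟩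
  rw [show r + 2 - 1 = r + 1 from rfl]
  nlinarith [Nat.zero_le (r * v), Nat.zero_le (r * r * v)]

/-- Arithmetic: trivial image, many scalars. -/
theorem arith_full' {q v : ℕ} (hq : 2 ≤ q) : q * q * v ≤ (q + 2) * v * (q - 1) + 1 := by
  obtain ⟨r, rfl⟩ : ∃ r, q = r + 2 := ⟨q - 2, by omega⟩
  rw [show r + 2 - 1 = r + 1 from rfl]
  nlinarith [Nat.zero_le (r * v)]

/-- Arithmetic: a line, a doubled orbit. -/
theorem arith_line {q v I : ℕ} (hq : 2 ≤ q) (hv : q * q ≤ v) (hI : v - 1 ≤ I * (q - 1)) :
    q * q * v ≤ 2 * (q * (I * q)) * (q - 1) + 1 := by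
  obtain ⟨w, rfl⟩ : ∃ w, v = w + 1 := ⟨v - 1, by
    have : 0 < v := lt_of_lt_of_le (Nat.mul_pos (by omega) (by omega)) hv
    omega⟩
  rw [Nat.add_sub_cancel] at hI
  have h1 := Nat.mul_le_mul_left (2 * (q * q)) hI
  have h2 : q * q * (w + 1) ≤ 2 * (q * q) * w := by
    have : 1 ≤ w := by nlinarith
    nlinarith
  calc q * q * (w + 1) ≤ 2 * (q * q) * (I * (q - 1)) := h2.trans h1
    _ = 2 * (q * (I * q)) * (q - 1) := by ring
    _ ≤ _ := Nat.le_succ _

/-- Arithmetic: a line, many scalars. -/
theorem arith_line' {q v I : ℕ} (hq : 2 ≤ q) (hv : q * q ≤ v) (hI : v - 1 ≤ I * (q - 1)) :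
    q * q * v ≤ (q + 2) * (I * q) * (q - 1) + 1 := by
  obtain ⟨w, rfl⟩ : ∃ w, v = w + 1 := ⟨v - 1, by
    have : 0 < v := lt_of_lt_of_le (Nat.mul_pos (by omega) (by omega)) hv
    omega⟩
  rw [Nat.add_sub_cancel] at hI
  have h1 := Nat.mul_le_mul_left ((q + 2) * q) hI
  have h2 : q * q * (w + 1) ≤ (q + 2) * q * w := by
    have : q ≤ 2 * w := by nlinarith
    have := Nat.mul_le_mul_left q this
    nlinarith
  calc q * q * (w + 1) ≤ (q + 2) * q * (I * (q - 1)) := h2.trans h1
    _ = (q + 2) * (I * q) * (q - 1) := by ring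
    _ ≤ _ := Nat.le_succ _

/-- Arithmetic: a proper part of a line. -/
theorem arith_part {q v I x : ℕ} (hv : q * q ≤ v) (hx : 1 ≤ x) (h2x : 2 * (x + 1) ≤ q)
    (hI : v - 1 ≤ I * x) : q * q * v ≤ q * (I * (x + 1)) * (q - 1) + 1 := by
  obtain ⟨d, rfl⟩ : ∃ d, q = 2 * (x + 1) + d := ⟨q - 2 * (x + 1), by omega⟩
  obtain ⟨w, rfl⟩ : ∃ w, v = w + 1 := ⟨v - 1, by
    have : 0 < v := lt_of_lt_of_le (Nat.mul_pos (by omega) (by omega)) hv
    omega⟩
  rw [Nat.add_sub_cancel] at hI
  rw [show 2 * (x + 1) + d - 1 = 2 * x + 1 + d by omega]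
  set q := 2 * (x + 1) + d with hq
  refine Nat.le_succ_of_le (Nat.le_of_mul_le_mul_left ?_ hx)
  have h1 := Nat.mul_le_mul_left (q * (x + 1) * (2 * x + 1 + d)) hI
  have h2 : q * x * (w + 1) ≤ (x + 1) * (2 * x + 1 + d) * w := by
    have e : (x + 1) * (2 * x + 1 + d) = q * x + (x + 1 + d) := by rw [hq]; ring
    have : q * x ≤ (x + 1 + d) * w := by nlinarith
    rw [e]; nlinarith
  have h3 := Nat.mul_le_mul_left q h2
  nlinarith

include hef in
/-- Even characteristic, at least four elements. -/
theorem point_even (h2 : (2 : F) = 0) (hq : 4 ≤ Nat.card F) {m : ℕ} (hm : 2 ≤ m)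
    (hn : finrank F V = 2 * m) {K : Subgroup (Isom B)} (hK : NoFull hB K) :
    Nat.card F ^ (2 * m) ≤ K.index * (Nat.card F - 1) + 1 ∨ lset hB e f K = ⊤ := by
  by_cases hL : lset hB e f K = ⊤
  · exact Or.inr hL
  left
  have : Finite (pairPerp B e f) := Module.finite_of_finite F
  have he := e_ne_zero hB hef
  obtain ⟨hfr, hv⟩ := card_perp hB (by omega) hn hef
  have hZt := hK.zset_ne_top hB he
  obtain ⟨ψ, hψ, -⟩ := exists_char _ hZt
  obtain ⟨-, hR⟩ := sqStab_mul_index_ge (zset hB e K) hZt (by omega)
  obtain ⟨hR, hR'⟩ := hR h2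
  obtain ⟨hn1, hn2⟩ := index_ge hB hef ψ hψ K
  set q := Nat.card F with hqd
  clear_value q
  set M := ann ψ (lset hB e f K) with hMd
  have hMc : Nat.card M = (lset hB e f K).index := card_ann hB hef ψ hψ _
  have hM0 : M ≠ ⊥ := fun h => hL (AddSubgroup.index_eq_one.1 (by
    rw [← hMc, h, AddSubgroup.card_bot]))
  obtain ⟨hI, hcases⟩ := images_bound (restr_pairPerp hB hef) M hM0 (setStab M) fun g => Iff.rfl
  set R := (sqStab (zset hB e K)).index * (zset hB e K).index
  set I := (setStab M).index
  set v := Nat.card (pairPerp B e f) with hvd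
  clear_value v
  have hvq : q * q ≤ v := by
    rw [hv, ← sq]; exact Nat.pow_le_pow_right (by omega) (by omega)
  have hpow : q ^ (2 * m) = q * q * v := by
    rw [hv, ← sq, ← pow_add]; congr 1; omega
  rw [hpow]
  obtain ⟨a0, ha0⟩ : ∃ a : Fˣ, (a : F) ^ 2 ≠ 1 := by
    have : Fintype F := Fintype.ofFinite F
    obtain ⟨l, h0, h1⟩ := exists_scalar (F := F) ⟨Finset.univ, by
      rw [Finset.card_univ, ← Nat.card_eq_fintype_card]; omega⟩
    exact ⟨Units.mk0 l h0, h1⟩
  obtain ⟨q', rfl⟩ | h0 : (∃ q', q = q' + 1) ∨ q = 0 := by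
    rcases q with _ | k
    · exact Or.inr rfl
    · exact Or.inl ⟨k, rfl⟩
  swap
  · omega
  -- the covered case
  have hcov : ∀ u : pairPerp B e f, u ≠ 0 → invStab hB K ≤ cov hB hef K →
      ((a0, 1) : Fˣ × _) ∈ invStab hB (e := e) (f := f) K →
      (∀ c : F, ((1 : Fˣ), transv (restr_pairPerp hB hef) u c) ∈ invStab hB (e := e) (f := f) K) →
      False := by
    intro u hu hle ha ht
    obtain ⟨r, hr⟩ := lev_mem_of_torus hB hef ha0 (hle ha)
    obtain ⟨c, hc⟩ := hK.conj hB r (u : V) (by simpa using hu)
    exact hc (lev_transv hB hef u c ▸ hr _ (hle (ht c)))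
  simp only [Nat.add_sub_cancel] at *
  rcases hcases with hj | htop | ⟨u, hu, hline⟩
  · -- two translates
    have h1 : 2 * (v - 1) ≤ I * Nat.card M := hj.trans (Nat.mul_le_mul_left _ (Nat.sub_le _ _))
    refine bound_of_le (le_trans (Nat.mul_le_mul hR h1) hn1) ?_
    exact arith_two_even hq hvq
  · -- `L` trivial
    have hMv : Nat.card M = v := by rw [htop, AddSubgroup.card_top, hvd]
    have hI1 : 1 ≤ I := Nat.pos_of_ne_zero (by
      have : Finite (Isom (restr B (pairPerp B e f))) := finite_isom
      exact Subgroup.index_ne_zero_of_finite)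
    have h1 : v ≤ I * Nat.card M := by rw [hMv]; exact Nat.le_mul_of_pos_left _ hI1
    by_cases hZ : zset hB e K = ⊥
    · by_cases hle : invStab hB (e := e) (f := f) K ≤ cov hB hef K
      · exfalso
        have hL0 : lset hB e f K = ⊥ := by
          have := AddSubgroup.card_mul_index (lset hB e f K)
          rw [← hMc, hMv, ← hvd] at this
          exact AddSubgroup.eq_bot_of_card_eq _ (mul_eq_right₀ (by nlinarith : v ≠ 0) |>.1 this)
        obtain ⟨u, hu⟩ : ∃ u : pairPerp B e f, u ≠ 0 := by
          have : Nontrivial (pairPerp B e f) :=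
            Module.nontrivial_of_finrank_pos (R := F) (by omega)
          exact exists_ne 0
        have hall : ∀ p, p ∈ invStab hB (e := e) (f := f) K := fun p =>
          ⟨fun w => by simp [hL0, act, smul_eq_zero_iff_eq], fun c => by simp [hZ]⟩
        exact hcov u hu hle (hall _) fun c => hall _
      · exact bound_of_le (le_trans (Nat.mul_le_mul_left 2 (Nat.mul_le_mul hR h1)) (hn2 hle))
          (arith_full (by omega))
    · exact bound_of_le (le_trans (Nat.mul_le_mul (hR' hZ) h1) hn1) (arith_full' (by omega))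
  · -- `M` inside a line
    have hMle : Nat.card M ≤ q' + 1 := by
      rw [hqd]
      refine Nat.card_le_card_of_injective (fun w : M => (hline _ w.2).choose) fun a b h => ?_
      apply Subtype.ext
      rw [(hline _ a.2).choose_spec, (hline _ b.2).choose_spec]
      exact congrArg (· • u) h
    obtain ⟨x, hx⟩ : ∃ x, Nat.card M = x + 1 := ⟨Nat.card M - 1, by
      have : 0 < Nat.card M := Nat.card_pos
      omega⟩
    rw [hx, Nat.add_sub_cancel] at hI
    by_cases hlt : Nat.card M = q' + 1
    · have hxq : x = q' := by omega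
      subst hxq
      by_cases hZ : zset hB e K = ⊥
      · by_cases hle : invStab hB (e := e) (f := f) K ≤ cov hB hef K
        · exfalso
          have hker := lset_eq_ker hB hef hψ hu hline (by rw [hx, hqd])
          refine hcov u hu hle ⟨fun l => ?_, fun c => by simp [hZ]⟩
            fun c => ⟨fun l => ?_, fun d => by simp [hZ]⟩
          · simp [hker, act]
          · simp [hker, act, transv_smul, hB.self]
        · refine bound_of_le (le_trans (Nat.mul_le_mul_left 2 (Nat.mul_le_mul hR (le_refl _)))
            (hn2 hle)) ?_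
          rw [hx]
          exact arith_line (by omega) hvq (by simpa using hI)
      · refine bound_of_le (le_trans (Nat.mul_le_mul (hR' hZ) (le_refl _)) hn1) ?_
        rw [hx]
        exact arith_line' (by omega) hvq (by simpa using hI)
    · -- a proper additive subgroup of the line
      have hx1 : 1 ≤ x := by
        by_contra hx0
        refine hM0 (AddSubgroup.eq_bot_of_card_eq _ ?_)
        omega
      have hhalf : 2 * (x + 1) ≤ q' + 1 := by
        let A : AddSubgroup F := M.comap (LinearMap.toSpanSingleton F _ u).toAddMonoidHom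
        have hAc : Nat.card A = x + 1 := by
          rw [← hx]
          refine Nat.card_eq_of_bijective (fun a : A => (⟨(a : F) • u, a.2⟩ : M)) ⟨fun a b h => ?_, fun w => ?_⟩
          · exact Subtype.ext (smul_left_injective F hu (congrArg Subtype.val h))
          · obtain ⟨t, ht⟩ := hline _ w.2
            exact ⟨⟨t, show t • u ∈ M from ht ▸ w.2⟩, Subtype.ext ht.symm⟩
        have hd := AddSubgroup.card_mul_index A
        rw [hAc, ← hqd] at hd
        have : 2 ≤ A.index := by
          rcases Nat.lt_or_ge A.index 2 with h | h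
          · interval_cases A.index <;> omega
          · exact h
        nlinarith
      refine bound_of_le (le_trans (Nat.mul_le_mul hR (le_refl _)) hn1) ?_
      rw [hx]
      exact arith_part hvq hx1 hhalf hI

include hef in
/-- Odd characteristic. -/
theorem point_odd (h2 : (2 : F) ≠ 0) {m : ℕ} (hm : 2 ≤ m) (hq : 5 ≤ Nat.card F ∨ 3 ≤ m)
    (hn : finrank F V = 2 * m) {K : Subgroup (Isom B)} (hK : NoFull hB K) :
    Nat.card F ^ (2 * m) ≤ K.index * (Nat.card F - 1) + 1 := by
  have : Finite (pairPerp B e f) := Module.finite_of_finite F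
  have : Fintype F := Fintype.ofFinite F
  have hq3 : 3 ≤ Nat.card F := by
    rw [Nat.card_eq_fintype_card, ← Finset.card_univ]
    classical
    refine le_trans ?_ (Finset.card_le_card (Finset.subset_univ ({0, 1, -1} : Finset F)))
    have : (1 : F) ≠ -1 := fun h => h2 (by linear_combination h)
    simp [this]
  have he := e_ne_zero hB hef
  obtain ⟨hfr, hv⟩ := card_perp hB (by omega) hn hef
  have hZt := hK.zset_ne_top hB he
  obtain ⟨ψ, hψ, hψZ⟩ := exists_char _ hZt
  obtain ⟨hR, -⟩ := sqStab_mul_index_ge (zset hB e K) hZt hq3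
  obtain ⟨hn1, hn2⟩ := index_ge hB hef ψ hψ K
  set q := Nat.card F with hqd
  clear_value q
  set L := lset hB e f K with hLd
  set M := ann ψ L with hMd
  have hMc : Nat.card M = L.index := card_ann hB hef ψ hψ _
  have hLM : L ≤ M := by
    rintro l ⟨c, hc⟩ l' ⟨c', hc'⟩
    refine hψZ _ (half_mem (F := F) _ h2 ?_)
    have h1 := K.mul_mem hc hc'
    have h1' := K.mul_mem hc' hc
    rw [tA_mul hB (perp_e l) (perp_e l')] at h1
    rw [tA_mul hB (perp_e l') (perp_e l)] at h1'
    have h3 := K.mul_mem (K.inv_mem h1) h1'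
    rw [tA_inv hB (by rw [map_add, perp_e, perp_e, add_zero]),
      tA_mul hB (by rw [map_neg, map_add, perp_e, perp_e, add_zero, neg_zero])
        (by rw [map_add, perp_e, perp_e, add_zero]),
      add_comm (l' : V) (l : V), neg_add_cancel, tA_zero_vec, map_neg, hB.self, neg_zero,
      add_zero] at h3
    rw [mem_zset, smul_eq_mul]
    convert h3 using 2
    rw [hB.swap (l' : V) (l : V)]
    ring
  have hvpos : 1 < Nat.card (pairPerp B e f) := by
    rw [hv]; exact Nat.one_lt_pow (by omega) (by omega)
  have hcm := AddSubgroup.card_mul_index L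
  rw [← hMc] at hcm
  have hLle : Nat.card L ≤ Nat.card M := Nat.card_le_card_of_injective _
    (AddSubgroup.inclusion_injective hLM)
  have hM0 : M ≠ ⊥ := fun h => by
    rw [h, AddSubgroup.card_bot] at hcm hLle
    nlinarith
  obtain ⟨hI, hcases⟩ := images_bound (restr_pairPerp hB hef) M hM0 (setStab M) fun g => Iff.rfl
  set R := (sqStab (zset hB e K)).index * (zset hB e K).index
  set I := (setStab M).index
  set v := Nat.card (pairPerp B e f) with hvd
  clear_value v
  have hvq : q * q ≤ v := by
    rw [hv, ← sq]; exact Nat.pow_le_pow_right (by omega) (by omega)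
  have hpow : q ^ (2 * m) = q * q * v := by
    rw [hv, ← sq, ← pow_add]; congr 1; omega
  rw [hpow]
  have hperf : commutator (Isom (restr B (pairPerp B e f))) = ⊤ := by
    refine commutator_isom_eq_top (restr_pairPerp hB hef) ?_
    rcases hq with hq5 | hm3
    · exact Or.inr (Or.inr (exists_scalar ⟨Finset.univ, by
        rw [Finset.card_univ, ← Nat.card_eq_fintype_card]; omega⟩))
    · exact Or.inr (Or.inl ⟨by omega, h2⟩)
  have hconj : ∀ (c : F) (g : Isom (restr B (pairPerp B e f))),
      Commute (transv hB e c) (lev hB hef (1, g)) := fun c g => (transv_comm_lev hB hef c g).symm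
  rcases hcases with hj | htop | ⟨u, hu, hline⟩
  · -- two translates
    have h1 : 2 * (v - 1) ≤ I * Nat.card M := hj.trans (Nat.mul_le_mul_left _ (Nat.sub_le _ _))
    have h3 : (q + 2) * (v - 1) ≤ K.index := by nlinarith
    refine bound_of_le h3 ?_
    exact arith_two hq3 hvq
  · -- `L` trivial
    have hMv : Nat.card M = v := by rw [htop, AddSubgroup.card_top, hvd]
    have hI1 : 1 ≤ I := Nat.pos_of_ne_zero (by
      have : Finite (Isom (restr B (pairPerp B e f))) := finite_isom
      exact Subgroup.index_ne_zero_of_finite)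
    have h1 : v ≤ I * Nat.card M := by rw [hMv]; exact Nat.le_mul_of_pos_left _ hI1
    have hL0 : L = ⊥ := by
      rw [hMv] at hcm
      exact AddSubgroup.eq_bot_of_card_eq _ (mul_eq_right₀ (by omega : v ≠ 0) |>.1 hcm)
    by_cases hle : invStab hB (e := e) (f := f) K ≤ cov hB hef K
    · exfalso
      have hall : ∀ g, ((1 : Fˣ), g) ∈ cov hB hef K := fun g =>
        hle ⟨fun w => by simp [← hLd, hL0, act, smul_eq_zero_iff_eq], fun c => by simp⟩
      obtain ⟨r, hr⟩ := lev_mem_of_neg hB hef h2 (hall _)
      let φ := (lev hB hef).comp (MonoidHom.inr Fˣ (Isom (restr B (pairPerp B e f))))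
      have hsub : commutator _ ≤ (conjBy r K).comap φ := by
        rw [commutator_def, Subgroup.commutator_le]
        intro g _ g' _
        obtain ⟨c, hc⟩ := hr g (hall g)
        obtain ⟨c', hc'⟩ := hr g' (hall g')
        have h := (conjBy r K).mul_mem ((conjBy r K).mul_mem ((conjBy r K).mul_mem hc hc')
          ((conjBy r K).inv_mem hc)) ((conjBy r K).inv_mem hc')
        rw [Subgroup.mem_comap]
        convert h using 1
        simp only [φ, MonoidHom.comp_apply, MonoidHom.inr_apply, map_commutatorElement,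
          commutatorElement_def, mul_inv_rev]
        set x := transv hB e c
        set y := transv hB e c'
        set a := lev hB hef (1, g)
        set b := lev hB hef (1, g')
        have hxy : Commute x y := by
          show x * y = y * x
          simp only [x, y, transv_mul, add_comm c c']
        have hxa : Commute x a := hconj c g
        have hxb : Commute x b := hconj c g'
        have hya : Commute y a := hconj c' g
        have hyb : Commute y b := hconj c' g'
        symm
        calc x * a * (y * b) * (a⁻¹ * x⁻¹) * (b⁻¹ * y⁻¹)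
            = x * (a * y) * b * a⁻¹ * (x⁻¹ * b⁻¹) * y⁻¹ := by group
          _ = x * (y * a) * b * a⁻¹ * (b⁻¹ * x⁻¹) * y⁻¹ := by
              rw [hya.eq, (hxb.inv_inv).eq]
          _ = (x * y) * (a * b * a⁻¹ * b⁻¹) * (x⁻¹ * y⁻¹) := by group
          _ = (a * b * a⁻¹ * b⁻¹) * ((x * y) * (x⁻¹ * y⁻¹)) := by
              rw [((((hxa.mul_right hxb).mul_right hxa.inv_right).mul_right hxb.inv_right).mul_left
                (((hya.mul_right hyb).mul_right hya.inv_right).mul_right hyb.inv_right)).eq, mul_assoc]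
          _ = a * b * a⁻¹ * b⁻¹ := by rw [hxy.eq]; group
          _ = _ := by simp only [a, b, ← map_inv, ← map_mul]; simp
      obtain ⟨u, hu⟩ : ∃ u : pairPerp B e f, u ≠ 0 := by
        have : Nontrivial (pairPerp B e f) :=
          Module.nontrivial_of_finrank_pos (R := F) (by omega)
        exact exists_ne 0
      obtain ⟨c, hc⟩ := hK.conj hB r (u : V) (by simpa using hu)
      refine hc ?_
      rw [← lev_transv hB hef u c]
      exact hsub (hperf ▸ Subgroup.mem_top _)
    · have h3 : (q + 2) * v ≤ K.index :=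
        le_trans (le_trans (Nat.mul_le_mul hR h1) (le_of_eq (mul_assoc _ _ _))) (hn2 hle)
      exact bound_of_le h3 (arith_full' (by omega))
  · -- `M` inside a line
    have hMle : Nat.card M ≤ q := by
      rw [hqd]
      refine Nat.card_le_card_of_injective (fun w : M => (hline _ w.2).choose) fun a b h => ?_
      apply Subtype.ext
      rw [(hline _ a.2).choose_spec, (hline _ b.2).choose_spec]
      exact congrArg (· • u) h
    have hvle : v ≤ q * q := hcm ▸ Nat.mul_le_mul (hLle.trans hMle) hMle
    have hm2 : m = 2 := by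
      by_contra hne
      have : q ^ 3 ≤ q ^ 2 := by
        rw [sq, ← le_antisymm hvle hvq, hv]
        exact Nat.pow_le_pow_right (by omega) (by omega)
      have := (Nat.pow_le_pow_iff_right (by omega : 1 < q)).1 this
      omega
    have hq5 : 5 ≤ q := hq.resolve_right (by omega)
    have hMq : Nat.card M = q := by
      refine le_antisymm hMle ?_
      have : q * q ≤ Nat.card M * q := by
        calc q * q ≤ v := hvq
          _ = Nat.card L * Nat.card M := hcm.symm
          _ ≤ q * Nat.card M := Nat.mul_le_mul_right _ (hLle.trans hMle)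
          _ = Nat.card M * q := mul_comm _ _
      exact Nat.le_of_mul_le_mul_right this (by omega)
    by_cases hle : invStab hB (e := e) (f := f) K ≤ cov hB hef K
    · exfalso
      have hker : ∀ l, l ∈ L ↔ B (u : V) (l : V) = 0 :=
        lset_eq_ker hB hef hψ hu hline (hMq.trans hqd)
      have hin : ∀ (g : Isom (restr B (pairPerp B e f))) (t : F), t ≠ 0 → g • u = t • u →
          ((1 : Fˣ), g) ∈ cov hB hef K := by
        intro g t ht hg
        refine hle ⟨fun l => ?_, fun c => by simp⟩
        rw [← hLd, hker, hker]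
        have h := isom_apply_smul (B := restr B (pairPerp B e f)) g u l
        rw [hg, restr_apply, restr_apply, Submodule.coe_smul, map_smul, LinearMap.smul_apply,
          smul_eq_mul] at h
        simp only [act, Units.val_one, one_smul]
        rw [← h, mul_eq_zero, or_iff_right ht]
      obtain ⟨r, hr⟩ := lev_mem_of_neg hB hef h2
        (hin (negIsom _) (-1) (by norm_num) (by simp))
      obtain ⟨b, hb0, hb⟩ := exists_scalar (F := F) ⟨Finset.univ, by
        rw [Finset.card_univ, ← Nat.card_eq_fintype_card]; omega⟩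
      obtain ⟨h, hh⟩ := exists_smul_eq_of_ne_zero (restr_pairPerp hB hef) hu (smul_ne_zero hb0 hu)
      obtain ⟨d, hd⟩ := hr h (hin h b hb0 hh)
      obtain ⟨c0, hc0⟩ := hK.conj hB r (u : V) (by simpa using hu)
      set K' := conjBy r K
      obtain ⟨c, rfl⟩ : ∃ c, (b ^ 2 - 1) * c = c0 :=
        ⟨(b ^ 2 - 1)⁻¹ * c0, mul_inv_cancel_left₀ (sub_ne_zero.2 hb) _⟩
      obtain ⟨d', hd'⟩ := hr _ (hin (transv (restr_pairPerp hB hef) u c) 1 one_ne_zero
        (by simp [transv_smul, hB.self]))
      refine hc0 ?_
      rw [lev_transv] at hd'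
      have h1 := K'.mul_mem (K'.mul_mem (K'.mul_mem hd hd') (K'.inv_mem hd)) (K'.inv_mem hd')
      set a := lev hB hef (1, h)
      set z := transv hB e d
      set y := transv hB e d'
      set T := transv hB (u : V) c
      have hza : Commute z a := hconj d h
      have hya : Commute y a := hconj d' h
      have hyT : Commute y T := by
        rw [show T = lev hB hef (1, transv (restr_pairPerp hB hef) u c) from
          (lev_transv hB hef u c).symm]
        exact hconj d' _
      have hzT : Commute z T := by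
        rw [show T = lev hB hef (1, transv (restr_pairPerp hB hef) u c) from
          (lev_transv hB hef u c).symm]
        exact hconj d _
      have hzy : Commute z y := by
        show z * y = y * z
        simp only [z, y, transv_mul, add_comm d d']
      have hau : a • (u : V) = b • (u : V) := by
        rw [lev_smul_mem, hh]; rfl
      have hz : Commute z (a * T * a⁻¹) := (hza.mul_right hzT).mul_right hza.inv_right
      have hy : Commute y (a * T * a⁻¹) := (hya.mul_right hyT).mul_right hya.inv_right
      convert h1 using 1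
      calc transv hB (u : V) ((b ^ 2 - 1) * c) = a * T * a⁻¹ * T⁻¹ := by
            rw [transv_conj, hau, transv_vec_smul, transv_inv, transv_mul]
            ring_nf
        _ = z * a * (y * T) * (z * a)⁻¹ * (y * T)⁻¹ := by
            have e1 : z * a * (y * T) * (z * a)⁻¹ = y * (a * T * a⁻¹) := by
              calc z * a * (y * T) * (z * a)⁻¹ = z * (a * y) * T * a⁻¹ * z⁻¹ := by group
                _ = (z * y) * (a * T * a⁻¹) * z⁻¹ := by rw [← hya.eq]; group
                _ = y * (z * (a * T * a⁻¹)) * z⁻¹ := by rw [hzy.eq, mul_assoc y]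
                _ = y * (a * T * a⁻¹) := by rw [hz.eq]; group
            rw [e1, hyT.eq, mul_inv_rev, hy.eq]
            group
    · have h3 : (q + 2) * (I * q) ≤ K.index := by
        refine le_trans (Nat.mul_le_mul hR (le_of_eq ?_)) ((le_of_eq (mul_assoc _ _ _)).trans (hn2 hle))
        rw [← hMq]
      rw [hMq] at hI
      exact bound_of_le h3 (arith_line' (by omega) hvq hI)

end Cfsg.Agent.Lib.MinIndexSp
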