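import Mathlib
import Cfsg.Agent.Lib.MinIndexSp.Point

/-!
Lib/MinIndexSp/Trans: characteristic two, a subgroup meeting every coset of each root group in its
Siegel group: it is transitive on non-zero vectors, and for more than two scalars this is absurd.
-/

set_option autoImplicit false
set_option linter.unusedSectionVars false

namespace Cfsg.Agent.Lib.MinIndexSp

open Module Cfsg.Agent.Lib.Symplectic

variable {F : Type*} {V : Type*} [Field F] [AddCommGroup V] [Module F V]
variable [FiniteDimensional F V]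
variable {B : V →ₗ[F] V →ₗ[F] F} (hB : IsSympForm B)

/-- `H` meets every coset of the root group in the Siegel group of `e`. -/
def OntoAt (H : Subgroup (Isom B)) (e : V) : Prop :=
  ∀ v, B e v = 0 → ∃ c, tA hB e v c ∈ H

include hB in
theorem ontoAt_of_lset (h2 : (2 : F) = 0) {H : Subgroup (Isom B)} {e f : V} (hef : B e f = 1)
    (h : lset hB e f H = ⊤) : OntoAt hB H e := by
  intro v hv
  have hmem : pairProj hB hef v ∈ lset hB e f H := h ▸ AddSubgroup.mem_top _
  obtain ⟨c, hc⟩ := hmem
  refine ⟨c, ?_⟩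
  have hve : B v e = 0 := hB.comm_eq_zero.1 hv
  have h1 : v = (pairProj hB hef v : V) + B v f • e := by
    rw [coe_pairProj, hve]; module
  rw [h1, tA_shift hB e (perp_e _), h2, zero_mul, add_zero]
  exact hc

/-- A translation along `e`. -/
theorem exists_translation {H : Subgroup (Isom B)} {e w : V} (hH : OntoAt hB H e) (he : e ≠ 0)
    (hew : B e w = 0) (hw : ∀ t : F, w ≠ t • e) : ∃ h ∈ H, h • e = e ∧ h • w = w + e := by
  obtain ⟨x, hx1, hx2⟩ := hB.exists_perp_ne_zero he hw
  have hv : B e ((B w x)⁻¹ • x) = 0 := by rw [map_smul, hx1, smul_zero]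
  obtain ⟨c, hc⟩ := hH _ hv
  refine ⟨_, hc, tA_self hB hv c, ?_⟩
  rw [tA_perp hB hv (hB.comm_eq_zero.1 hew), map_smul, smul_eq_mul, inv_mul_cancel₀ hx2, one_smul]

variable {H : Subgroup (Isom B)} (hH : ∀ e : V, e ≠ 0 → OntoAt hB H e)
include hH

theorem exists_step {w z : V} (hwz : B w z = 0) (hw : w ≠ 0) (hz : ∀ t : F, z ≠ t • w) :
    ∃ h ∈ H, h • w = z := by
  have he : z - w ≠ 0 := fun h => hz 1 (by rw [one_smul]; exact sub_eq_zero.1 h)
  obtain ⟨h, hh, -, hhw⟩ := exists_translation hB (hH _ he) he (w := w)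
    (by rw [map_sub, LinearMap.sub_apply, hB.self, sub_zero, hB.comm_eq_zero.1 hwz]) fun t ht => by
      rcases eq_or_ne t 0 with rfl | ht0
      · exact hw (by simpa using ht)
      refine hz ((1 + t) / t) ?_
      rw [smul_sub] at ht
      have h2 : (1 + t) • w = t • z := by rw [add_smul, one_smul]; nth_rewrite 1 [ht]; abel
      rw [div_eq_inv_mul, mul_smul, h2, inv_smul_smul₀ ht0]
  exact ⟨h, hh, by rw [hhw, add_sub_cancel]⟩

/-- Such a subgroup is transitive on non-zero vectors. -/
theorem exists_mem_smul_eq (h4 : 4 ≤ finrank F V) {x y : V} (hx : x ≠ 0) (hy : y ≠ 0) :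
    ∃ h ∈ H, h • x = y := by
  set P := LinearMap.ker (B x) ⊓ LinearMap.ker (B y)
  have hP : 2 ≤ finrank F P := by
    have hkx := Module.Dual.finrank_ker_add_one_of_ne_zero (hB.apply_ne_zero hx)
    have hky := Module.Dual.finrank_ker_add_one_of_ne_zero (hB.apply_ne_zero hy)
    have hsum := Submodule.finrank_sup_add_finrank_inf_eq (LinearMap.ker (B x)) (LinearMap.ker (B y))
    have hle : finrank F ↥(LinearMap.ker (B x) ⊔ LinearMap.ker (B y)) ≤ finrank F V :=
      Submodule.finrank_le _
    show 2 ≤ finrank F ↥(LinearMap.ker (B x) ⊓ LinearMap.ker (B y))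
    omega
  obtain ⟨p, hp, hpx⟩ := exists_not_mem_of_finrank_lt P (Submodule.span F ({x} : Set V))
    (by rw [finrank_span_singleton hx]; omega)
  obtain ⟨p', hp', hpy⟩ := exists_not_mem_of_finrank_lt P (Submodule.span F ({y} : Set V))
    (by rw [finrank_span_singleton hy]; omega)
  obtain ⟨z, hz, hzx, hzy⟩ : ∃ z ∈ P, z ∉ Submodule.span F ({x} : Set V) ∧
      z ∉ Submodule.span F ({y} : Set V) := by
    by_cases h1 : p ∈ Submodule.span F ({y} : Set V)
    · by_cases h2 : p' ∈ Submodule.span F ({x} : Set V)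
      · exact ⟨p + p', P.add_mem hp hp', fun h => hpx (by simpa using sub_mem h h2),
          fun h => hpy (by simpa using sub_mem h h1)⟩
      · exact ⟨p', hp', h2, hpy⟩
    · exact ⟨p, hp, hpx, h1⟩
  have hzx' : ∀ t : F, z ≠ t • x := fun t ht => hzx (mem_span_singleton_iff_smul.2 ⟨t, ht⟩)
  have hzy' : ∀ t : F, z ≠ t • y := fun t ht => hzy (mem_span_singleton_iff_smul.2 ⟨t, ht⟩)
  obtain ⟨g, hg, hgx⟩ := exists_step hB hH (LinearMap.mem_ker.1 hz.1) hx hzx'
  obtain ⟨g', hg', hgy⟩ := exists_step hB hH (LinearMap.mem_ker.1 hz.2) hy hzy'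
  exact ⟨g'⁻¹ * g, mul_mem (inv_mem hg') hg, by rw [mul_smul, hgx, ← hgy, inv_smul_smul]⟩

/-- Without a complete root group there is no transvection at all. -/
theorem eq_zero_of_transv_mem [Finite F] (h2 : (2 : F) = 0) (h4 : 4 ≤ finrank F V)
    (hNF : NoFull hB H) {e : V} (he : e ≠ 0) {c : F} (hc : transv hB e c ∈ H) : c = 0 := by
  by_contra hc0
  have : Fintype F := Fintype.ofFinite F
  have : CharP F 2 := CharTwo.of_one_ne_zero_of_two_eq_zero one_ne_zero h2
  obtain ⟨d, hd⟩ := hNF e he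
  obtain ⟨a, ha⟩ := FiniteField.isSquare_of_char_two (ringChar.eq F 2) (d / c)
  have hd' : d = a * a * c := by rw [← ha, div_mul_cancel₀ d hc0]
  have ha0 : a ≠ 0 := fun h => hd (by simp [hd', h, H.one_mem])
  obtain ⟨h, hh, hhe⟩ := exists_mem_smul_eq hB hH h4 he (smul_ne_zero ha0 he)
  refine hd ?_
  have h1 := H.mul_mem (H.mul_mem hh hc) (H.inv_mem hh)
  rwa [transv_conj, hhe, transv_vec_smul, sq, ← hd'] at h1

omit hH in
theorem neg_eq_self (h2 : (2 : F) = 0) (x : V) : -x = x := by
  have : (2 : F) • x = 0 := by rw [h2, zero_smul]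
  rw [two_smul] at this
  exact neg_eq_of_add_eq_zero_left this

/-- The parameter is unique. -/
theorem param_unique [Finite F] (h2 : (2 : F) = 0) (h4 : 4 ≤ finrank F V) (hNF : NoFull hB H)
    {e v : V} (he : e ≠ 0) (hev : B e v = 0) {c d : F} (hc : tA hB e v c ∈ H)
    (hd : tA hB e v d ∈ H) : c = d := by
  have h := H.mul_mem (H.inv_mem hc) hd
  rw [tA_inv hB hev, tA_mul hB (by rw [map_neg, hev, neg_zero]) hev, neg_add_cancel, map_neg,
    hB.self, neg_zero, add_zero, tA_zero_vec] at h
  linear_combination -(eq_zero_of_transv_mem hB hH h2 h4 hNF he h)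

/-- The parameters along a totally isotropic line determine each other. -/
theorem param_swap (h2 : (2 : F) = 0) {e w : V} (he : e ≠ 0) (hew : B e w = 0)
    (hw : ∀ t : F, w ≠ t • e) {β c : F} (hc : tA hB w (β • e) c ∈ H) (μ : F) :
    tA hB e ((μ * c) • w) (μ ^ 2 * c) ∈ H := by
  rcases eq_or_ne μ 0 with rfl | hμ
  · simp [tA_zero, H.one_mem]
  have hμe : μ • e ≠ 0 := smul_ne_zero hμ he
  obtain ⟨h, hh, hhe, hhw⟩ := exists_translation hB (hH _ hμe) hμe (w := w)
    (by rw [map_smul, LinearMap.smul_apply, hew, smul_zero]) fun t ht =>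
      hw (t * μ) (by rw [ht, smul_smul])
  have hwe : B w e = 0 := hB.comm_eq_zero.1 hew
  have hve : B w (β • e) = 0 := by rw [map_smul, hwe, smul_zero]
  have h1 := H.mul_mem (H.mul_mem hh hc) (H.inv_mem hh)
  have hhe' : h • e = e := by
    have := congrArg (fun x => μ⁻¹ • x) hhe
    simpa [smul_comm μ⁻¹ h, inv_smul_smul₀ hμ] using this
  rw [tA_conj hB hve, hhw, smul_comm h β, hhe'] at h1
  have h3 := H.mul_mem h1 hc
  convert h3 using 1
  have hve' : B (w + μ • e) (β • e) = 0 := by simp [hwe, hB.self]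
  apply isom_ext; intro x
  rw [mul_smul (tA hB (w + μ • e) (β • e) c) _ x, tA_smul hB hve, tA_smul hB hve',
    tA_smul hB (by rw [map_smul, hew, smul_zero])]
  simp only [map_add, map_smul, LinearMap.add_apply, LinearMap.smul_apply, smul_eq_mul, hB.self,
    hew, hwe, mul_zero, add_zero]
  match_scalars <;> (rw [← sub_eq_zero]; ring_nf; try simp [h2])

/-- With at least four scalars no such subgroup exists without a complete root group. -/
theorem not_all_ontoAt [Finite F] (h2 : (2 : F) = 0) (hq : 4 ≤ Nat.card F)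
    (h4 : 4 ≤ finrank F V) : ¬ NoFull hB H := by
  intro hNF
  have hzero : ∀ e v : V, e ≠ 0 → B e v = 0 → (∀ t : F, v ≠ t • e) → tA hB e v 0 ∈ H := by
    intro w e hw hwe he'
    have he : e ≠ 0 := fun h => he' 0 (by simp [h])
    have hew : B e w = 0 := hB.comm_eq_zero.1 hwe
    have hw' : ∀ t : F, w ≠ t • e := fun t ht => by
      rcases eq_or_ne t 0 with rfl | ht0
      · exact hw (by simpa using ht)
      · exact he' t⁻¹ (by rw [ht, inv_smul_smul₀ ht0])
    obtain ⟨c, hc⟩ := hH w hw e hwe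
    by_cases hc0 : c = 0
    · exact hc0 ▸ hc
    exfalso
    have hu : ∀ u : F, tA hB e (u • w) (u ^ 2 / c) ∈ H := fun u => by
      have := param_swap hB hH h2 he hew hw' (β := 1) (by rwa [one_smul]) (u / c)
      convert this using 2
      · rw [div_mul_cancel₀ u hc0]
      · field_simp
    have : Fintype F := Fintype.ofFinite F
    obtain ⟨b, hb0, hb⟩ := exists_scalar (F := F) ⟨Finset.univ, by
      rw [Finset.card_univ, ← Nat.card_eq_fintype_card]; omega⟩
    have hsw : ∀ u : F, u ≠ 0 → tA hB w ((1 : F) • e) (c / u ^ 2) ∈ H := fun u hu0 => by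
      have := param_swap hB hH h2 hw hwe he' (hu u) (c / u ^ 2)
      convert this using 2
      · rw [show c / u ^ 2 * (u ^ 2 / c) = 1 by field_simp]
      · field_simp
    have := param_unique hB hH h2 h4 hNF hw (by rw [map_smul, hwe, smul_zero]) (hsw b hb0)
      (hsw 1 one_ne_zero)
    field_simp at this
    exact hb this.symm
  obtain ⟨a, ha⟩ : ∃ a : V, a ≠ 0 := by
    have : Nontrivial V := Module.nontrivial_of_finrank_pos (R := F) (by omega)
    exact exists_ne 0
  obtain ⟨a', haa⟩ := hB.exists_eq_one ha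
  have hfr := finrank_pairPerp hB haa
  obtain ⟨v, hv⟩ : ∃ v : pairPerp B a a', v ≠ 0 := by
    have : Nontrivial (pairPerp B a a') := Module.nontrivial_of_finrank_pos (R := F) (by omega)
    exact exists_ne 0
  obtain ⟨v', hvv⟩ := (restr_pairPerp hB haa).exists_eq_one hv
  rw [restr_apply] at hvv
  have hind : ∀ u : pairPerp B a a', u ≠ 0 → ∀ t : F, (u : V) ≠ t • a := fun u hu t ht => hu (by
    have h := perp_f (e := a) (f := a') u
    rw [ht, map_smul, hB.swap a' a, haa] at h
    apply Subtype.ext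
    rw [ht, (by simpa using h : t = 0), zero_smul]; rfl)
  have hv' : v' ≠ 0 := fun h => by simp [h] at hvv
  have hs : v + v' ≠ 0 := fun h => by
    rw [eq_neg_of_add_eq_zero_right h, Submodule.coe_neg, map_neg, hB.self] at hvv
    simp at hvv
  have h1 := H.mul_mem (hzero a _ ha (perp_e v') (hind v' hv'))
    (hzero a _ ha (perp_e v) (hind v hv))
  have h3 := H.mul_mem (H.inv_mem (hzero a _ ha (perp_e (v + v')) (hind _ hs))) h1
  rw [tA_mul hB (perp_e v') (perp_e v), tA_inv hB (perp_e _), hvv, neg_zero, zero_add, zero_add,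
    tA_mul hB (by rw [map_neg, perp_e, neg_zero]) (by rw [map_add, perp_e, perp_e, add_zero]),
    Submodule.coe_add, add_comm (v' : V) (v : V), neg_add_cancel, map_neg, hB.self, neg_zero,
    zero_add, add_zero, tA_zero_vec] at h3
  exact one_ne_zero (eq_zero_of_transv_mem hB hH h2 h4 hNF ha h3)

end Cfsg.Agent.Lib.MinIndexSp
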