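import Mathlib
import Cfsg.Agent.Lib.MinIndexSp.Trans
import Cfsg.Agent.Lib.MinIndexSp.Full
import Cfsg.Agent.Lib.Symplectic.Std

/-!
Lib/MinIndexSp/Main: the minimal index of a proper subgroup of a symplectic group, at least three
scalars, and the stabiliser of a point.
-/

set_option autoImplicit false
set_option linter.unusedSectionVars false

namespace Cfsg.Agent.Lib.MinIndexSp

open Module MulAction Cfsg.Agent.Lib.Symplectic
open scoped LinearAlgebra.Projectivization

variable {F : Type*} {V : Type*} [Field F] [Finite F] [AddCommGroup V] [Module F V]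
variable [FiniteDimensional F V]
variable {B : V →ₗ[F] V →ₗ[F] F} (hB : IsSympForm B)

include hB in
/-- A proper subgroup has index at least the number of points. -/
theorem index_ge_of_ne_top (hq : 3 ≤ Nat.card F) {m : ℕ} (hm : 2 ≤ m)
    (hexc : ¬ (m = 2 ∧ Nat.card F = 3)) (hn : finrank F V = 2 * m) {H : Subgroup (Isom B)}
    (hH : H ≠ ⊤) : (Nat.card F ^ (2 * m) - 1) / (Nat.card F - 1) ≤ H.index := by
  suffices hmain : Nat.card F ^ (2 * m) ≤ H.index * (Nat.card F - 1) + 1 by
    refine Nat.div_le_of_le_mul ?_
    rw [mul_comm (Nat.card F - 1)]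
    omega
  by_cases hNF : NoFull hB H
  · obtain ⟨e, he⟩ : ∃ e : V, e ≠ 0 := by
      have : Nontrivial V := Module.nontrivial_of_finrank_pos (R := F) (by omega)
      exact exists_ne 0
    obtain ⟨f, hef⟩ := hB.exists_eq_one he
    by_cases h2 : (2 : F) = 0
    · have hq4 : 4 ≤ Nat.card F := by
        by_contra h
        have h3 : Nat.card F = 3 := by omega
        have : Fintype F := Fintype.ofFinite F
        have h3' : Fintype.card F = 3 := by rwa [← Nat.card_eq_fintype_card]
        have h := FiniteField.cast_card_eq_zero F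
        rw [h3'] at h
        exact one_ne_zero (α := F) (by linear_combination h - h2)
      by_contra hcon
      refine not_all_ontoAt hB (H := H) (fun x hx => ?_) h2 hq4 (by omega) hNF
      obtain ⟨y, hxy⟩ := hB.exists_eq_one hx
      exact ontoAt_of_lset hB h2 hxy
        ((point_even hB hxy h2 hq4 hm hn hNF).resolve_left hcon)
    · exact point_odd hB hef h2 hm (by
        by_contra h
        push Not at h
        have : Nat.card F ≠ 4 := fun h4 => by
          have : Fintype F := Fintype.ofFinite F
          rw [Nat.card_eq_fintype_card] at h4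
          have h' := FiniteField.cast_card_eq_zero F
          rw [h4] at h'
          exact h2 (mul_self_eq_zero.1 (by linear_combination h' : (2 : F) * 2 = 0))
        exact hexc ⟨by omega, by omega⟩) hn hNF
  · simp only [NoFull, not_forall, not_not, exists_prop, not_exists] at hNF
    obtain ⟨a, ha, hac⟩ := hNF
    exact index_ge_full hB hq hm hn hH ⟨ha, hac⟩

include hB in
/-- The stabiliser of a point. -/
theorem exists_point_stab {m : ℕ} (hm : 1 ≤ m) (hn : finrank F V = 2 * m) :
    ∃ H : Subgroup (Isom B), Subgroup.center (Isom B) ≤ H ∧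
      H.index = (Nat.card F ^ (2 * m) - 1) / (Nat.card F - 1) := by
  have := isPretransitive_proj hB
  obtain ⟨x, hx⟩ : ∃ x : V, x ≠ 0 := by
    have : Nontrivial V := Module.nontrivial_of_finrank_pos (R := F) (by omega)
    exact exists_ne 0
  refine ⟨stabilizer (Isom B) (Projectivization.mk F x hx), fun g hg => smul_eq_of_mem_center hB hg _, ?_⟩
  rw [index_stabilizer_of_transitive, Projectivization.card'',
    Module.natCard_eq_pow_finrank (K := F) (V := V), hn]

/-- Transfer to `PSp`. -/
theorem min_index_psp {F : Type*} [Field F] [Finite F] {q : ℕ} (hF : Nat.card F = q) {m : ℕ}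
    (hm : 1 ≤ m) {N : ℕ}
    (hlow : ∀ H : Subgroup (Isom (stdForm m F)), H ≠ ⊤ → N ≤ H.index)
    (hex : ∃ H : Subgroup (Isom (stdForm m F)), Subgroup.center (Isom (stdForm m F)) ≤ H ∧
      H.index = N) :
    (∀ H : Subgroup (Cfsg.PSp m F), H ≠ ⊤ → N ≤ H.index) ∧
      ∃ H : Subgroup (Cfsg.PSp m F), H.index = N := by
  set e := pspEquiv m F
  set π := QuotientGroup.mk' (Subgroup.center (Isom (stdForm m F)))
  have hπ : Function.Surjective π := QuotientGroup.mk'_surjective _
  refine ⟨fun H hH => ?_, ?_⟩
  · set K := (H.map e.toMonoidHom).comap π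
    have hK : K.index = H.index := by
      rw [Subgroup.index_comap_of_surjective _ hπ]
      exact Subgroup.index_map_equiv H e
    rw [← hK]
    refine hlow K fun h => hH ?_
    rw [← Subgroup.index_eq_one, ← hK, h, Subgroup.index_top]
  · obtain ⟨K, hc, hK⟩ := hex
    refine ⟨(K.map π).comap e.toMonoidHom, ?_⟩
    rw [Subgroup.index_comap_of_surjective (f := e.toMonoidHom) _ e.surjective,
      Subgroup.index_map_eq _ hπ (by rw [QuotientGroup.ker_mk']; exact hc), hK]

end Cfsg.Agent.Lib.MinIndexSp
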