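import Mathlib
import Cfsg.Agent.Lib.MinIndexSp.Trans
import Cfsg.Agent.Lib.MinIndexSp.Reducible
import Cfsg.Agent.Lib.Symplectic.OddOrthChar2

/-!
Lib/MinIndexSp/Two: two scalars. A subgroup without transvections has index at least `2^(2m-1)`; a
proper one with transvections leaves a subspace or a quadratic form invariant.
-/

set_option autoImplicit false
set_option linter.unusedSectionVars false

namespace Cfsg.Agent.Lib.MinIndexSp

open Module Cfsg.Agent.Lib.Symplectic

variable {F : Type*} {V : Type*} [Field F] [Finite F] [AddCommGroup V] [Module F V]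
variable [FiniteDimensional F V]
variable {B : V →ₗ[F] V →ₗ[F] F} (hB : IsSympForm B)
variable (hF : Nat.card F = 2)

include hF

theorem two_cases (c : F) : c = 0 ∨ c = 1 := by
  classical
  have : Fintype F := Fintype.ofFinite F
  by_contra h
  push Not at h
  have h3 : ({0, 1, c} : Finset F).card = 3 := by
    rw [Finset.card_insert_of_notMem (by simp [Ne.symm h.1]),
      Finset.card_insert_of_notMem (by simp [Ne.symm h.2]), Finset.card_singleton]
  have := Finset.card_le_card (Finset.subset_univ ({0, 1, c} : Finset F))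
  rw [h3, Finset.card_univ, ← Nat.card_eq_fintype_card, hF] at this
  omega

theorem two_eq_zero : (2 : F) = 0 := by
  have : Fintype F := Fintype.ofFinite F
  have h := FiniteField.cast_card_eq_zero F
  rwa [← Nat.card_eq_fintype_card, hF, Nat.cast_two] at h

theorem one_add_one : (1 : F) + 1 = 0 := by
  linear_combination two_eq_zero hF

omit hF in
/-- The line of a vector over two scalars. -/
theorem ne_smul (hF : Nat.card F = 2) {a b : V} (hb : b ≠ 0) (hab : b ≠ a) :
    ∀ t : F, b ≠ t • a := fun t => by
  rcases two_cases hF t with rfl | rfl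
  · simpa using hb
  · simpa using hab

theorem apply_eq_one {x y : V} (h : B x y ≠ 0) : B x y = 1 :=
  (two_cases hF _).resolve_left h

include hB in
/-- Without a transvection at `e`: large index or every coset of the root group. -/
theorem point_two {m : ℕ} (hm : 2 ≤ m) (hn : finrank F V = 2 * m) {H : Subgroup (Isom B)}
    {e : V} (he : e ≠ 0) (hnot : transv hB e 1 ∉ H) :
    2 ^ (2 * m - 1) ≤ H.index ∨ OntoAt hB H e := by
  obtain ⟨f, hef⟩ := hB.exists_eq_one he
  by_cases hL : lset hB e f H = ⊤
  · exact Or.inr (ontoAt_of_lset hB (two_eq_zero hF) hef hL)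
  left
  have : Finite (pairPerp B e f) := Module.finite_of_finite F
  have hZ : zset hB e H = ⊥ := by
    refine eq_bot_iff.2 fun c hc => ?_
    rcases two_cases hF c with rfl | rfl
    · exact zero_mem _
    · exact absurd hc hnot
  obtain ⟨hfr, hv⟩ := card_perp hB (by omega) hn hef
  obtain ⟨ψ, hψ, -⟩ := exists_char (F := F) ⊥ bot_ne_top
  obtain ⟨hn1, -⟩ := index_ge hB hef ψ hψ H
  set M := ann ψ (lset hB e f H)
  have hM0 : M ≠ ⊥ := fun h => hL (AddSubgroup.index_eq_one.1 (by
    rw [← card_ann hB hef ψ hψ, show ann ψ (lset hB e f H) = ⊥ from h, AddSubgroup.card_bot]))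
  obtain ⟨hI, -⟩ := images_bound (restr_pairPerp hB hef) M hM0 (setStab M) fun g => Iff.rfl
  have hI1 : 1 ≤ (setStab M).index := Nat.pos_of_ne_zero (by
    have : Finite (Isom (restr B (pairPerp B e f))) := finite_isom
    exact Subgroup.index_ne_zero_of_finite)
  have hT : 1 ≤ (sqStab (zset hB e H)).index :=
    Nat.pos_of_ne_zero Subgroup.index_ne_zero_of_finite
  have hR : 2 ≤ (sqStab (zset hB e H)).index * (zset hB e H).index := by
    have : (zset hB e H).index = 2 := by rw [hZ, AddSubgroup.index_bot, hF]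
    rw [this]; omega
  obtain ⟨x, hx⟩ : ∃ x, Nat.card M = x + 1 := ⟨Nat.card M - 1, by
    have : 0 < Nat.card M := Nat.card_pos
    omega⟩
  rw [hx, Nat.add_sub_cancel] at hI
  have hIM : 2 ^ (2 * m - 2) ≤ (setStab M).index * Nat.card M := by
    rw [hv, hF] at hI
    rw [hx, mul_add, mul_one]
    omega
  calc 2 ^ (2 * m - 1) = 2 * 2 ^ (2 * m - 2) := by
        rw [← pow_succ']; congr 1; omega
    _ ≤ (sqStab (zset hB e H)).index * (zset hB e H).index * ((setStab M).index * Nat.card M) :=
        Nat.mul_le_mul hR hIM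
    _ ≤ H.index := hn1

include hB in
theorem not_isotropic {m : ℕ} (hm : 3 ≤ m) (hn : finrank F V = 2 * m) (a b : V) :
    ∃ x y : V, B a x = 0 ∧ B b x = 0 ∧ B a y = 0 ∧ B b y = 0 ∧ B x y ≠ 0 := by
  by_contra hcon
  push Not at hcon
  set S := Submodule.span F ({a, b} : Set V)
  have hmem : ∀ x ∈ oPerp B S, B a x = 0 ∧ B b x = 0 := fun x hx =>
    ⟨hB.comm_eq_zero.1 (mem_oPerp.1 hx a (Submodule.subset_span (by simp))),
      hB.comm_eq_zero.1 (mem_oPerp.1 hx b (Submodule.subset_span (by simp)))⟩
  have hiso : oPerp B S ≤ oPerp B (oPerp B S) := fun x hx => mem_oPerp.2 fun y hy =>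
    hcon x y (hmem x hx).1 (hmem x hx).2 (hmem y hy).1 (hmem y hy).2
  rw [oPerp_oPerp hB] at hiso
  have h1 := Submodule.finrank_mono hiso
  have h2 := finrank_oPerp hB S
  have hspan : finrank F S ≤ 2 := by
    classical
    refine (finrank_span_le_card _).trans ?_
    rw [Set.toFinset_insert, Set.toFinset_singleton]
    exact Finset.card_le_two
  omega

include hB in
/-- The subgroup cannot meet every coset at every point without containing a transvection. -/
theorem not_all_ontoAt_two {m : ℕ} (hm : 3 ≤ m) (hn : finrank F V = 2 * m) {H : Subgroup (Isom B)}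
    (hfree : ∀ e : V, e ≠ 0 → transv hB e 1 ∉ H) (hH : ∀ e : V, e ≠ 0 → OntoAt hB H e) : False := by
  have h2 := two_eq_zero hF
  have hneg : ∀ c : F, -c = c := fun c => by linear_combination -c * h2
  -- `t_a ≡ t_b`
  let R : V → V → Prop := fun a b => transv hB a 1 * transv hB b 1 ∈ H
  have hinv : ∀ a : V, (transv hB a (1 : F))⁻¹ = transv hB a 1 := fun a => by
    rw [transv_inv, hneg]
  have hRsymm : ∀ {a b}, R a b → R b a := fun {a b} h => by
    have := H.inv_mem h
    rwa [mul_inv_rev, hinv, hinv] at this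
  have hRtrans : ∀ {a b c}, R a b → R b c → R a c := fun {a b c} h h' => by
    have := H.mul_mem h h'
    rwa [mul_assoc, ← mul_assoc (transv hB b 1), transv_mul, one_add_one hF, transv_zero,
      one_mul] at this
  -- closure under sums of orthogonal members
  have hsum : ∀ {a b}, a ≠ 0 → b ≠ 0 → b ≠ a → B a b = 0 → R a b → R a (a + b) := by
    intro a b ha hb hba hab h
    obtain ⟨g, hg, hga, hgb⟩ := exists_translation hB (hH a ha) ha hab (ne_smul hF hb hba)
    have h1 := H.mul_mem (H.mul_mem hg h) (H.inv_mem hg)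
    rw [show g * (transv hB a 1 * transv hB b 1) * g⁻¹ =
      g * transv hB a 1 * g⁻¹ * (g * transv hB b 1 * g⁻¹) by group, transv_conj, transv_conj, hga,
      hgb] at h1
    rwa [show R a (a + b) ↔ transv hB a 1 * transv hB (b + a) 1 ∈ H by rw [add_comm]]
  -- parameter one gives related vectors
  have hone : ∀ {e v}, e ≠ 0 → B e v = 0 → tA hB e v 1 ∈ H → R e v := by
    intro e v he hev h
    have hve : B v e = 0 := hB.comm_eq_zero.1 hev
    have h1 : R v (v + e) := by
      show _ ∈ H
      convert h using 1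
      apply isom_ext; intro x
      rw [mul_smul, transv_smul, transv_smul, tA_smul hB hev]
      simp only [map_add, map_smul, LinearMap.add_apply, LinearMap.smul_apply, smul_eq_mul,
        one_mul, hB.self, hev, hve, mul_zero, add_zero]
      match_scalars <;> (rw [← sub_eq_zero]; ring_nf; try simp [h2])
    have hv0 : v ≠ 0 := by
      rintro rfl
      exact hfree e he (tA_zero_vec hB e (1 : F) ▸ h)
    have hne : v + e ≠ 0 := fun h0 => by
      have hev' : v = e := by rw [eq_neg_of_add_eq_zero_left h0, neg_eq_self h2]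
      have hsh := tA_shift hB e (map_zero (B e)) (1 : F) (1 : F)
      rw [zero_add, one_smul, h2, zero_mul, add_zero, tA_zero_vec] at hsh
      rw [hev', hsh] at h
      exact hfree e he h
    have h2' := hsum hv0 hne (fun h0 => he (by simpa using h0))
      (by rw [map_add, hB.self, hev |> fun _ => hve, add_zero]) h1
    rw [show v + (v + e) = e by rw [← add_assoc, ← two_smul F v, h2, zero_smul, zero_add]] at h2'
    exact hRsymm h2'
  -- the parameter is unique
  have huniq : ∀ {e v : V} {c d : F}, e ≠ 0 → B e v = 0 → tA hB e v c ∈ H → tA hB e v d ∈ H →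
      c = d := by
    intro e v c d he hev hc hd
    have h := H.mul_mem (H.inv_mem hc) hd
    rw [tA_inv hB hev, tA_mul hB (by rw [map_neg, hev, neg_zero]) hev, neg_add_cancel, map_neg,
      hB.self, neg_zero, add_zero, tA_zero_vec] at h
    rcases two_cases hF (-c + d) with h0 | h0
    · linear_combination -h0
    · exact absurd (h0 ▸ h) (hfree e he)
  -- orthogonal vectors are related
  have horth : ∀ {e v}, e ≠ 0 → v ≠ 0 → v ≠ e → B e v = 0 → R e v := by
    intro e v he hv hve hev
    obtain ⟨c, hc⟩ := hH e he v hev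
    rcases two_cases hF c with rfl | rfl
    swap
    · exact hone he hev hc
    obtain ⟨w, hew, hvw, hw⟩ : ∃ w, B e w = 0 ∧ B v w = 0 ∧ tA hB e w 1 ∈ H := by
      by_contra hcon
      push Not at hcon
      obtain ⟨x, y, hx1, hx2, hy1, hy2, hxy⟩ := not_isotropic hB hF hm hn e v
      have hz : ∀ w, B e w = 0 → B v w = 0 → tA hB e w 0 ∈ H := fun w h1 h2' => by
        obtain ⟨d, hd⟩ := hH e he w h1
        rcases two_cases hF d with rfl | rfl
        · exact hd
        · exact absurd hd (hcon w h1 h2')
      have h1 := H.mul_mem (hz y hy1 hy2) (hz x hx1 hx2)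
      rw [tA_mul hB hy1 hx1] at h1
      have := huniq he (by rw [map_add, hy1, hx1, add_zero]) h1
        (hz (y + x) (by rw [map_add, hy1, hx1, add_zero]) (by rw [map_add, hy2, hx2, add_zero]))
      exact hxy (by simpa using this)
    have hwv : B w v = 0 := hB.comm_eq_zero.1 hvw
    have hs : tA hB e (v + w) 1 ∈ H := by
      have := H.mul_mem hc hw
      rwa [tA_mul hB hev hew, hwv, zero_add, add_zero] at this
    have hevw : B e (v + w) = 0 := by rw [map_add, hev, hew, add_zero]
    have hw0 : w ≠ 0 := fun h => hfree e he (by rw [h, tA_zero_vec] at hw; exact hw)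
    have hvw0 : v + w ≠ 0 := fun h => hfree e he (by rw [h, tA_zero_vec] at hs; exact hs)
    have hneq : v + w ≠ w := fun h => hv (by simpa using h)
    have h1 := hone he hew hw
    have h3 := hsum hw0 hvw0 hneq (by rw [map_add, hwv, hB.self, add_zero])
      (hRtrans (hRsymm h1) (hone he hevw hs))
    rw [show w + (v + w) = v by
      rw [add_left_comm, ← two_smul F w, h2, zero_smul, add_zero]] at h3
    exact hRtrans h1 h3
  -- three independent orthogonal vectors
  obtain ⟨a, b, d, ha, hab, had, hbd, hb, hd⟩ := exists_three_orth hB (by omega)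
  have key : transv hB (a + b + d) (1 : F) * transv hB a 1 * transv hB b 1 * transv hB d 1
      = transv hB (a + b) 1 * transv hB (a + d) 1 * transv hB (b + d) 1 := by
    apply isom_ext; intro y
    simp only [mul_smul, transv_smul, map_add, map_smul, LinearMap.add_apply,
      LinearMap.smul_apply, smul_eq_mul, hB.self, hab, had, hbd, hB.swap b a, hB.swap d a,
      hB.swap d b, neg_zero, mul_zero, add_zero]
    module
  have hb0 : b ≠ 0 := fun h => hb 0 (by simp [h])
  have hd0 : d ≠ 0 := fun h => hd 0 0 (by simp [h])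
  have hba : b ≠ a := fun h => hb 1 (by simp [h])
  have hdb : d ≠ b := fun h => hd 0 1 (by simp [h])
  have habd : a + b + d ≠ 0 := fun h => hd 1 1 (by
    rw [eq_neg_of_add_eq_zero_right h, neg_eq_self h2]; simp)
  have habn : a + b ≠ 0 := fun h => hb 1 (by
    rw [eq_neg_of_add_eq_zero_right h, neg_eq_self h2]; simp)
  have hadn : a + d ≠ 0 := fun h => hd 1 0 (by
    rw [eq_neg_of_add_eq_zero_right h, neg_eq_self h2]; simp)
  have hbdn : b + d ≠ 0 := fun h => hd 0 1 (by
    rw [eq_neg_of_add_eq_zero_right h, neg_eq_self h2]; simp)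
  have r1 : R (a + b + d) a := horth habd ha
    (fun h => hd 0 1 (by
      have h' : b + d = 0 := by
        have : a + (b + d) = a + 0 := by rw [add_zero, ← add_assoc]; exact h.symm
        exact add_left_cancel this
      rw [eq_neg_of_add_eq_zero_right h', neg_eq_self h2]; simp))
    (by simp [hB.self, hB.comm_eq_zero.1 hab, hB.comm_eq_zero.1 had])
  have r2 : R b d := horth hb0 hd0 hdb hbd
  have r3 : R (a + b) (a + d) := horth habn hadn (fun h => hdb (add_left_cancel h))
    (by simp [hB.self, hB.comm_eq_zero.1 hab, had, hbd])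
  have h1 := H.mul_mem r1 r2
  rw [show transv hB (a + b + d) (1 : F) * transv hB a 1 * (transv hB b 1 * transv hB d 1) =
    transv hB (a + b + d) 1 * transv hB a 1 * transv hB b 1 * transv hB d 1 by group, key] at h1
  exact hfree _ hbdn ((H.mul_mem_cancel_left r3).1 h1)

/-- The transvection set is the set of non-singular vectors of a quadratic form. -/
theorem exists_quadratic {m : ℕ} (hm : 3 ≤ m) (hn : finrank F V = 2 * m) {H : Subgroup (Isom B)}
    (hne : H ≠ ⊤)
    (hH : ∀ e : V, e ≠ 0 → transv hB e 1 ∉ H → OntoAt hB H e)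
    (hspan : Submodule.span F {a : V | a ≠ 0 ∧ transv hB a 1 ∈ H} = ⊤) :
    ∃ q : V → F, (∀ x y, q (x + y) = q x + q y + B x y) ∧ ∀ h ∈ H, ∀ x, q (h • x) = q x := by
  classical
  set E := {a : V | a ≠ 0 ∧ transv hB a 1 ∈ H} with hE
  have h2 := two_eq_zero hF
  have h11 := one_add_one hF
  have hsw : ∀ x y : V, B y x = B x y := fun x y => by
    rw [hB.swap y x]; linear_combination -(B x y) * h2
  have hself : ∀ x : V, x + x = 0 := fun x => by rw [← two_smul F x, h2, zero_smul]
  have hmove : ∀ {h : Isom B} {a : V}, h ∈ H → a ∈ E → h • a ∈ E := fun {h a} hh ha =>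
    ⟨isom_smul_ne_zero h ha.1, by
      rw [← transv_conj]; exact H.mul_mem (H.mul_mem hh ha.2) (H.inv_mem hh)⟩
  have hmove' : ∀ {h : Isom B} {a : V}, h ∈ H → a ∉ E → h • a ∉ E := fun {h a} hh ha h' =>
    ha (by simpa using hmove (H.inv_mem hh) h')
  -- an element of `H` adding `p`
  have htr : ∀ {p x : V}, p ≠ 0 → p ∉ E → x ≠ 0 → x ≠ p → B p x = 0 →
      ∃ h ∈ H, h • x = x + p := by
    intro p x hp hpE hx hxp hpx
    obtain ⟨h, hh, -, hh'⟩ := exists_translation hB (hH p hp fun h => hpE ⟨hp, h⟩) hp hpx
      (ne_smul hF hx hxp)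
    exact ⟨h, hh, hh'⟩
  have hte : ∀ {e x : V}, e ∈ E → B x e ≠ 0 → ∃ h ∈ H, h • x = x + e := fun {e x} he hxe =>
    ⟨_, he.2, by rw [transv_smul, apply_eq_one hF hxe, one_mul, one_smul]⟩
  have r_ep : ∀ {e p : V}, e ∈ E → p ∉ E → p ≠ 0 → B p e = 0 → e + p ∈ E := by
    intro e p he hpE hp h
    obtain ⟨g, hg, hgx⟩ := htr hp hpE he.1 (fun h' => hpE (h' ▸ he)) h
    exact hgx ▸ hmove hg he
  have r_ep' : ∀ {e p : V}, e ∈ E → p ∉ E → B p e ≠ 0 → p + e ∉ E := by
    intro e p he hpE h
    obtain ⟨g, hg, hgx⟩ := hte he h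
    exact hgx ▸ hmove' hg hpE
  have r_ee : ∀ {e e' : V}, e ∈ E → e' ∈ E → B e' e ≠ 0 → e' + e ∈ E := by
    intro e e' he he' h
    obtain ⟨g, hg, hgx⟩ := hte he h
    exact hgx ▸ hmove hg he'
  -- orthogonal sums of `E` leave `E`
  have r_orth : ∀ {a b : V}, a ∈ E → b ∈ E → B a b = 0 → a + b ∉ E := by
    intro a b ha hb hab hcE
    have hba : b ≠ a := fun h => hcE.1 (by rw [h, hself])
    have step1 : ∀ p, p ∉ E → p ≠ 0 → B p a = 0 → B p b = 0 := by
      intro p hpE hp hpa
      by_contra hpb
      have h1 : a + p ∈ E := r_ep ha hpE hp hpa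
      have h2' : p + b ∉ E := r_ep' hb hpE hpb
      have hne0 : p + b ≠ 0 := fun h => hpE (by
        rw [eq_neg_of_add_eq_zero_left h, neg_eq_self h2]; exact hb)
      have h3 : a + (p + b) ∈ E := r_ep ha h2' hne0 (by
        rw [map_add, LinearMap.add_apply, hpa, hsw a b, hab, add_zero])
      have h4 : p + (a + b) ∉ E := r_ep' hcE hpE (by rw [map_add, hpa, zero_add]; exact hpb)
      exact h4 (by rw [add_left_comm]; exact h3)
    have step2 : ∀ p, B p a = 0 → p ≠ 0 → p ∈ E := by
      intro p hpa hp
      by_contra hpE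
      have hq : ∀ q, B q a = 0 → B q b ≠ 0 → B p q = 0 := by
        intro q hqa hqb
        by_contra hpq
        have hqE : q ∈ E := by
          by_contra h
          exact hqb (step1 q h (fun h0 => hqb (by simp [h0])) hqa)
        have h1 : p + q ∉ E := r_ep' hqE hpE hpq
        have h2' := step1 (p + q) h1 (fun h0 => hpE (by
          rw [eq_neg_of_add_eq_zero_left h0, neg_eq_self h2]; exact hqE))
          (by rw [map_add, LinearMap.add_apply, hpa, hqa, add_zero])
        rw [map_add, LinearMap.add_apply, step1 p hpE hp hpa, zero_add] at h2'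
        exact hqb h2'
      obtain ⟨q0, hq0a, hq0b⟩ := hB.exists_perp_ne_zero ha.1 (ne_smul hF hb.1 hba)
      rw [hsw q0 a] at hq0a
      rw [hsw q0 b] at hq0b
      have hker : ∀ x, B a x = 0 → B p x = 0 := by
        intro x hx
        by_cases hxb : B x b ≠ 0
        · exact hq x (by rw [hsw a x, hx]) hxb
        · push Not at hxb
          have h1 := hq (q0 + x) (by rw [map_add, LinearMap.add_apply, hq0a, hsw a x, hx, add_zero])
            (by rw [map_add, LinearMap.add_apply, hxb, add_zero]; exact hq0b)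
          rwa [map_add, hq q0 hq0a hq0b, zero_add] at h1
      by_cases hpa' : p = a
      · exact hpE (hpa' ▸ ha)
      obtain ⟨x, hx1, hx2⟩ := hB.exists_perp_ne_zero ha.1 (ne_smul hF hp hpa')
      exact hx2 (hker x hx1)
    refine hne (eq_top_iff.2 ?_)
    rw [← TG_eq_top hB, TG, Subgroup.closure_le]
    rintro _ ⟨⟨u, c⟩, rfl⟩
    rcases two_cases hF c with rfl | rfl
    · simp [H.one_mem]
    rcases eq_or_ne u 0 with rfl | hu
    · simp [H.one_mem]
    suffices huE : u ∈ E from huE.2
    by_contra huE
    have hua : B u a ≠ 0 := fun h => huE (step2 u h hu)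
    have hua' : u ≠ a := fun h => huE (h ▸ ha)
    obtain ⟨x, y, hx1, hx2, hy1, hy2, hxy⟩ := not_isotropic hB hF hm hn a u
    have hx0 : x ≠ 0 := fun h => hxy (by simp [h])
    have hcE' : x ∈ E := step2 x (by rw [hsw a x, hx1]) hx0
    have h1 : x + u ∈ E := r_ep hcE' huE hu hx2
    have hxa : x ≠ a := fun h => hua (by rw [← h]; exact hx2)
    have hacE : a + x ∈ E := step2 (a + x)
      (by rw [map_add, LinearMap.add_apply, hB.self, hsw a x, hx1, add_zero]) fun h =>
      hxa (by rw [eq_neg_of_add_eq_zero_right h, neg_eq_self h2])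
    have h2' : u + (a + x) ∉ E := r_ep' hacE huE (by
      rw [map_add, hx2, add_zero]; exact hua)
    have h3 : (x + u) + a ∈ E := r_ee ha h1 (by
      rw [map_add, LinearMap.add_apply, hsw a x, hx1, zero_add]; exact hua)
    exact h2' (by rw [show u + (a + x) = x + u + a by abel]; exact h3)
  -- the form
  let q : V → F := fun v => if v ∈ E then 1 else 0
  have qE : ∀ {v}, v ∈ E → q v = 1 := fun {v} h => if_pos h
  have qN : ∀ {v}, v ∉ E → q v = 0 := fun {v} h => if_neg h
  have hq0 : q 0 = 0 := qN fun h => h.1 rfl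
  have hbase : ∀ e ∈ E, ∀ v, q (v + e) = q v + q e + B v e := by
    intro e he v
    rw [qE he]
    rcases eq_or_ne v 0 with rfl | hv0
    · rw [zero_add, qE he, hq0, map_zero, LinearMap.zero_apply, add_zero, zero_add]
    rcases eq_or_ne v e with rfl | hve
    · rw [hself, hq0, qE he, hB.self, add_zero, h11]
    by_cases hvE : v ∈ E <;> by_cases hbe : B v e = 0
    · rw [qE hvE, hbe, qN (r_orth hvE he hbe), add_zero, h11]
    · rw [qE hvE, qE (r_ee he hvE hbe), apply_eq_one hF hbe, h11, zero_add]
    · rw [qN hvE, hbe, add_comm v e, qE (r_ep he hvE hv0 hbe), zero_add, add_zero]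
    · rw [qN hvE, qN (r_ep' he hvE hbe), apply_eq_one hF hbe, zero_add, h11]
  have hall : ∀ a v, q (v + a) = q v + q a + B v a := by
    intro a
    have ha : a ∈ Submodule.span F E := hspan ▸ Submodule.mem_top
    induction ha using Submodule.span_induction with
    | mem e he => exact hbase e he
    | zero => intro v; simp [hq0]
    | add x y _ _ ihx ihy =>
      intro v
      rw [← add_assoc, ihy (v + x), ihx v, ihy x, map_add, LinearMap.add_apply, map_add]
      ring
    | smul t x _ ihx =>
      intro v
      rcases two_cases hF t with rfl | rfl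
      · simp [hq0]
      · simpa using ihx v
  refine ⟨q, fun x y => hall y x, fun h hh x => ?_⟩
  by_cases hx : x ∈ E
  · rw [qE hx, qE (hmove hh hx)]
  · rw [qN hx, qN (hmove' hh hx)]

omit hF in
/-- The signs `(-1) ^ c`. -/
noncomputable def sgn (c : F) : ℤ := by
  classical exact if c = 0 then 1 else -1

theorem sgn_add (a b : F) : sgn (a + b) = sgn a * sgn b := by
  rcases two_cases hF a with rfl | rfl <;> rcases two_cases hF b with rfl | rfl <;>
    simp [sgn, one_add_one hF]

/-- The stabiliser of a function. -/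
def qStab (B : V →ₗ[F] V →ₗ[F] F) (q : V → F) : Subgroup (Isom B) where
  carrier := {g | ∀ x, q (g • x) = q x}
  one_mem' x := by rw [one_smul]
  mul_mem' {a b} ha hb x := by rw [mul_smul, ha, hb]
  inv_mem' {a} ha x := by rw [← ha, smul_inv_smul]

variable {q : V → F} (hq : ∀ x y, q (x + y) = q x + q y + B x y)
include hq

theorem quad_zero : q 0 = 0 := by
  have := hq 0 0
  rw [add_zero, map_zero, add_zero] at this
  linear_combination -this

theorem quad_transv {u : V} (hu : q u = 0) (x : V) :
    q (transv hB u 1 • x) = q x + B x u := by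
  rw [transv_smul, one_mul, hq]
  rcases two_cases hF (B x u) with h | h
  · rw [h, zero_smul, quad_zero hF hq, map_zero, add_zero]
  · rw [h, one_smul, hu, h, add_zero]

theorem sum_shift [Fintype V] {u : V} :
    ∑ x : V, sgn (q x + B x u) = sgn (q u) * ∑ x : V, sgn (q x) := by
  rw [Finset.mul_sum]
  refine Fintype.sum_equiv (Equiv.addRight u) _ _ fun x => ?_
  show sgn (q x + B x u) = sgn (q u) * sgn (q (x + u))
  rw [← sgn_add hF, hq]
  congr 1
  linear_combination -(q u) * two_eq_zero hF

include hB in
theorem sum_sq [Fintype V] :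
    (∑ x : V, sgn (q x)) ^ 2 = (Fintype.card V : ℤ) := by
  classical
  have hz : ∀ z : V, ∑ x : V, sgn (B x z) = if z = 0 then (Fintype.card V : ℤ) else 0 := by
    intro z
    split_ifs with h
    · simp [h, sgn, Finset.card_univ]
    · obtain ⟨y, hy⟩ := hB.exists_eq_one h
      have h1 : ∑ x : V, sgn (B x z) = ∑ x : V, sgn (B (x + y) z) :=
        (Fintype.sum_equiv (Equiv.addRight y) _ _ fun x => rfl).symm
      have hy' : B y z = 1 := by rw [hB.swap, hy]; linear_combination -two_eq_zero hF
      simp only [map_add, LinearMap.add_apply, hy', sgn_add hF] at h1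
      rw [← Finset.sum_mul, show sgn (1 : F) = -1 by simp [sgn]] at h1
      linarith
  calc (∑ x : V, sgn (q x)) ^ 2 = ∑ x : V, ∑ z : V, sgn (q x) * sgn (q (x + z)) := by
        rw [sq, Finset.sum_mul_sum]
        exact Finset.sum_congr rfl fun x _ =>
          (Fintype.sum_equiv (Equiv.addLeft x) _ _ fun z => rfl).symm
    _ = ∑ x : V, ∑ z : V, sgn (q z) * sgn (B x z) := by
        refine Finset.sum_congr rfl fun x _ => Finset.sum_congr rfl fun z _ => ?_
        rw [← sgn_add hF, ← sgn_add hF, hq]
        congr 1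
        linear_combination q x * two_eq_zero hF
    _ = ∑ z : V, sgn (q z) * if z = 0 then (Fintype.card V : ℤ) else 0 := by
        rw [Finset.sum_comm]
        exact Finset.sum_congr rfl fun z _ => by rw [← Finset.mul_sum, hz]
    _ = (Fintype.card V : ℤ) := by
        simp [quad_zero hF hq, sgn]

include hB in
theorem sum_eq [Fintype V] {m : ℕ} (hn : finrank F V = 2 * m) :
    ∑ x : V, sgn (q x) = 2 ^ m ∨ ∑ x : V, sgn (q x) = -2 ^ m := by
  have h := sum_sq hB hF hq
  rw [← Nat.card_eq_fintype_card, Module.natCard_eq_pow_finrank (K := F) (V := V), hn, hF] at h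
  refine sq_eq_sq_iff_eq_or_eq_neg.1 ?_
  rw [h, ← pow_mul, mul_comm 2 m]
  norm_num

theorem two_mul_zeros [Fintype V] {m : ℕ} (hn : finrank F V = 2 * m) :
    (2 * Nat.card {u : V // q u = 0} : ℤ) = 2 ^ (2 * m) + ∑ x : V, sgn (q x) := by
  classical
  have hcard : (Fintype.card V : ℤ) = 2 ^ (2 * m) := by
    rw [← Nat.card_eq_fintype_card, Module.natCard_eq_pow_finrank (K := F) (V := V), hn, hF]
    norm_num
  have e : ∀ x : V, sgn (q x) = 2 * (if q x = 0 then 1 else 0) - 1 := fun x => by
    simp only [sgn]; split_ifs <;> norm_num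
  rw [Finset.sum_congr rfl fun x _ => e x, Finset.sum_sub_distrib, ← Finset.mul_sum,
    Finset.sum_boole, Finset.sum_const, Finset.card_univ, nsmul_one, Nat.card_eq_fintype_card,
    Fintype.card_subtype]
  rw [hcard]
  ring

include hB in
/-- The orbit of a quadratic form. -/
theorem zeros_le_index :
    Nat.card {u : V // q u = 0} ≤ (qStab B q).index := by
  have : Finite V := Module.finite_of_finite F
  have : Finite (Isom B) := finite_isom
  refine card_le_index _ (fun u => transv hB u.1 1) fun u v h => ?_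
  apply Subtype.ext
  refine sub_eq_zero.1 (hB.nondeg _ fun y => ?_)
  have h1 : q ((transv hB u.1 (1 : F))⁻¹ • (transv hB v.1 (1 : F) • y)) = q y := by
    rw [← mul_smul]; exact h y
  rw [transv_inv, show -(1 : F) = 1 by linear_combination -two_eq_zero hF,
    quad_transv hB hF hq u.2, quad_transv hB hF hq v.2, transv_smul, map_add, map_smul,
    LinearMap.add_apply, LinearMap.smul_apply, smul_eq_mul] at h1
  rcases two_cases hF (B (v : V) (u : V)) with hvu | hvu
  · rw [hvu, mul_zero, add_zero] at h1
    rw [map_sub, LinearMap.sub_apply, hB.swap (u : V) y, hB.swap (v : V) y]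
    linear_combination h1 - (B y (u : V)) * two_eq_zero hF
  · exfalso
    rw [hvu, one_mul, mul_one] at h1
    -- `B (u, v) = 1` forces `B y u = 0` for all `y`
    have hall : ∀ y, B y (u : V) = 0 := fun y => by
      have h1 : q ((transv hB u.1 (1 : F))⁻¹ • (transv hB v.1 (1 : F) • y)) = q y := by
        rw [← mul_smul]; exact h y
      rw [transv_inv, show -(1 : F) = 1 by linear_combination -two_eq_zero hF,
        quad_transv hB hF hq u.2, quad_transv hB hF hq v.2, transv_smul, map_add, map_smul,
        LinearMap.add_apply, LinearMap.smul_apply, smul_eq_mul, hvu, one_mul, mul_one] at h1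
      linear_combination h1 - (B y (v : V)) * two_eq_zero hF
    have := hall (v : V)
    rw [hvu] at this
    exact one_ne_zero this

include hB in
/-- The orbit of a quadratic form is no larger than its set of zeros. -/
theorem index_le_zeros [Fintype V] (hS : ∑ x : V, sgn (q x) ≠ 0) :
    (qStab B q).index ≤ Nat.card {u : V // q u = 0} := by
  classical
  have hex : ∀ g : Isom B, ∃ u : {u : V // q u = 0}, ∀ x, q (g⁻¹ • x) = q x + B x (u : V) := by
    intro g
    have hadd : ∀ x y, q (g⁻¹ • (x + y)) + q (x + y) =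
        (q (g⁻¹ • x) + q x) + (q (g⁻¹ • y) + q y) := fun x y => by
      rw [smul_add, hq, hq, isom_apply_smul]
      linear_combination (B x y) * two_eq_zero hF
    let δ : V →ₗ[F] F :=
      { toFun := fun x => q (g⁻¹ • x) + q x
        map_add' := hadd
        map_smul' := fun t x => by
          rcases two_cases hF t with rfl | rfl
          · simp [quad_zero hF hq, smul_zero]
          · simp }
    have hinj : Function.Injective B := fun x y h => sub_eq_zero.1 (hB.nondeg _ fun z => by
      rw [map_sub, h, sub_self, LinearMap.zero_apply])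
    obtain ⟨u, hu⟩ :=
      (LinearEquiv.ofInjectiveOfFinrankEq B hinj Subspace.dual_finrank_eq.symm).surjective δ
    have hu' : ∀ x, q (g⁻¹ • x) = q x + B x u := fun x => by
      have hu2 : B u x = q (g⁻¹ • x) + q x := LinearMap.congr_fun hu x
      rw [hB.swap x u, hu2]
      linear_combination (q (g⁻¹ • x)) * two_eq_zero hF
    refine ⟨⟨u, ?_⟩, hu'⟩
    have h1 : ∑ x : V, sgn (q x) = ∑ x : V, sgn (q (g⁻¹ • x)) :=
      (Fintype.sum_equiv (MulAction.toPerm g⁻¹) _ _ fun x => rfl).symm
    rw [Finset.sum_congr rfl fun x _ => congrArg sgn (hu' x), sum_shift hF hq] at h1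
    rcases two_cases hF (q u) with h | h
    · exact h
    · rw [h, show sgn (1 : F) = -1 by simp [sgn]] at h1
      exact absurd (by linarith) hS
  rw [Subgroup.index_eq_card]
  refine Nat.card_le_card_of_injective (fun ω => (hex ω.out).choose) fun ω ω' h => ?_
  rw [← QuotientGroup.out_eq' ω, ← QuotientGroup.out_eq' ω', QuotientGroup.eq]
  intro x
  have e1 := (hex ω.out).choose_spec (ω'.out • x)
  have e2 := (hex ω'.out).choose_spec (ω'.out • x)
  simp only at h
  rw [h] at e1
  rw [inv_smul_smul] at e2
  rw [mul_smul, e1, e2]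

end Cfsg.Agent.Lib.MinIndexSp
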