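import Mathlib
import Cfsg.Agent.Lib.MinIndexSp.Two
import Cfsg.Agent.Lib.MinIndexSp.Main

/-!
Lib/MinIndexSp/TwoMain: the minimal index of a proper subgroup of `Sp_2m(2)`, `m ≥ 3`, is the
number of quadratic forms of minus type.
-/

set_option autoImplicit false
set_option linter.unusedSectionVars false

namespace Cfsg.Agent.Lib.MinIndexSp

open Module Cfsg.Agent.Lib.Symplectic

theorem pow_facts {m : ℕ} (hm : 1 ≤ m) :
    2 ^ m = 2 * 2 ^ (m - 1) ∧ 2 ^ (2 * m) = 4 * (2 ^ (m - 1) * 2 ^ (m - 1)) ∧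
      2 ^ (2 * m - 1) = 2 * (2 ^ (m - 1) * 2 ^ (m - 1)) := by
  obtain ⟨k, rfl⟩ : ∃ k, m = k + 1 := ⟨m - 1, by omega⟩
  rw [Nat.add_sub_cancel, show 2 * (k + 1) - 1 = k + k + 1 by omega,
    show 2 * (k + 1) = k + k + 2 by omega]
  simp only [pow_add, pow_one]
  refine ⟨by ring, by ring, by ring⟩

variable {F : Type*} {V : Type*} [Field F] [Finite F] [AddCommGroup V] [Module F V]
variable [FiniteDimensional F V]
variable {B : V →ₗ[F] V →ₗ[F] F} (hB : IsSympForm B)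

include hB in
theorem zeros_bound (hF : Nat.card F = 2) {q : V → F}
    (hq : ∀ x y, q (x + y) = q x + q y + B x y) {m : ℕ} (hm : 1 ≤ m) (hn : finrank F V = 2 * m) :
    2 ^ (m - 1) * (2 ^ m - 1) ≤ Nat.card {u : V // q u = 0} := by
  have : Finite V := Module.finite_of_finite F
  have : Fintype V := Fintype.ofFinite V
  have h := two_mul_zeros hF hq hn
  obtain ⟨h1, h2, -⟩ := pow_facts hm
  rw [Nat.mul_sub, mul_one, h1]
  have e1 : ((2 : ℤ) ^ m) = 2 * ((2 ^ (m - 1) : ℕ) : ℤ) := by exact_mod_cast h1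
  have e2 : ((2 : ℤ) ^ (2 * m)) = 4 * (((2 ^ (m - 1) : ℕ) : ℤ) * ((2 ^ (m - 1) : ℕ) : ℤ)) := by
    exact_mod_cast h2
  set P := 2 ^ (m - 1)
  have hP : P ≤ P * P := Nat.le_mul_self P
  rcases sum_eq hB hF hq hn with hs | hs <;> rw [hs, e1, e2] at h <;>
  · refine Nat.sub_le_iff_le_add.2 ?_
    have : ((P * (2 * P) : ℕ) : ℤ) ≤ ((Nat.card {u : V // q u = 0} + P : ℕ) : ℤ) := by
      push_cast; nlinarith
    exact_mod_cast this

include hB in
/-- A proper subgroup of `Sp_2m(2)` has index at least `2^(m-1) (2^m - 1)`. -/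
theorem index_ge_two (hF : Nat.card F = 2) {m : ℕ} (hm : 3 ≤ m) (hn : finrank F V = 2 * m)
    {H : Subgroup (Isom B)} (hH : H ≠ ⊤) : 2 ^ (m - 1) * (2 ^ m - 1) ≤ H.index := by
  have : Finite (Isom B) := finite_isom
  obtain ⟨h1, h2, h3⟩ := pow_facts (m := m) (by omega)
  have hP : 1 ≤ 2 ^ (m - 1) := Nat.one_le_two_pow
  by_cases hloc : ∀ e : V, e ≠ 0 → transv hB e 1 ∉ H → OntoAt hB H e
  swap
  · push Not at hloc
    obtain ⟨e, he, hnot, hno⟩ := hloc
    refine le_trans ?_ ((point_two hB hF (by omega) hn he hnot).resolve_right hno)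
    rw [Nat.mul_sub, mul_one, h1, h3, mul_left_comm]
    exact Nat.sub_le _ _
  by_cases hspan : Submodule.span F {a : V | a ≠ 0 ∧ transv hB a 1 ∈ H} = ⊤
  · obtain ⟨q, hq, hqH⟩ := exists_quadratic hB hF hm hn hH hloc hspan
    have hle : H ≤ qStab B q := fun h hh x => hqH h hh x
    exact ((zeros_bound hB hF hq (by omega) hn).trans (zeros_le_index hB hF hq)).trans
      (Nat.le_of_dvd (Nat.pos_of_ne_zero Subgroup.index_ne_zero_of_finite)
        (Subgroup.index_dvd_of_le hle))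
  by_cases hE : ∃ a : V, a ≠ 0 ∧ transv hB a 1 ∈ H
  swap
  · push Not at hE
    exact (not_all_ontoAt_two hB hF hm hn hE fun e he => hloc e he (hE e he)).elim
  obtain ⟨a, ha, haH⟩ := hE
  set U := Submodule.span F {a : V | a ≠ 0 ∧ transv hB a 1 ∈ H}
  have hle := index_ge_reducible hB (H := H) (U := U) (fun g hg x hx => by
    have : U ≤ U.comap ((g : V ≃ₗ[F] V) : V →ₗ[F] V) :=
      Submodule.span_le.2 fun c hc => Submodule.subset_span ⟨isom_smul_ne_zero g hc.1, by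
        show transv hB (g • c) 1 ∈ H
        rw [← transv_conj]; exact H.mul_mem (H.mul_mem hg hc.2) (H.inv_mem hg)⟩
    exact this hx) (fun h0 => ha ((Submodule.mem_bot F).1 (h0 ▸ Submodule.subset_span ⟨ha, haH⟩)))
    hspan (m := m) (by omega) hn
  rw [hF, Nat.add_one_sub_one, mul_one, h2] at hle
  rw [Nat.mul_sub, mul_one, h1]
  have hle' : 2 ^ (m - 1) * (2 * 2 ^ (m - 1)) ≤ 4 * (2 ^ (m - 1) * 2 ^ (m - 1)) := by nlinarith
  omega

include hB in
/-- The stabiliser of a form of minus type. -/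
theorem exists_two_stab (hF : Nat.card F = 2) {q0 : V → F}
    (hq0 : ∀ x y, q0 (x + y) = q0 x + q0 y + B x y) (hone : ∃ u, q0 u = 1) {m : ℕ} (hm : 1 ≤ m)
    (hn : finrank F V = 2 * m) :
    ∃ H : Subgroup (Isom B), Subgroup.center (Isom B) ≤ H ∧
      H.index = 2 ^ (m - 1) * (2 ^ m - 1) := by
  classical
  have : Finite V := Module.finite_of_finite F
  have : Fintype V := Fintype.ofFinite V
  obtain ⟨q, hq, hS⟩ : ∃ q : V → F, (∀ x y, q (x + y) = q x + q y + B x y) ∧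
      ∑ x : V, sgn (q x) = -2 ^ m := by
    rcases sum_eq hB hF hq0 hn with hs | hs
    · obtain ⟨u, hu⟩ := hone
      refine ⟨fun x => q0 x + B x u, fun x y => by
        show q0 (x + y) + B (x + y) u = q0 x + B x u + (q0 y + B y u) + B x y
        rw [hq0, map_add, LinearMap.add_apply]; ring, ?_⟩
      rw [sum_shift hF hq0, hs, hu, show sgn (1 : F) = -1 by simp [sgn], neg_one_mul]
    · exact ⟨q0, hq0, hs⟩
  refine ⟨qStab B q, fun g hg x => ?_, ?_⟩
  · rcases eq_scalar_of_mem_center hB hg with rfl | rfl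
    · rw [one_smul]
    · rw [negIsom_smul, neg_eq_self (two_eq_zero hF)]
  have hz : Nat.card {u : V // q u = 0} = 2 ^ (m - 1) * (2 ^ m - 1) := by
    have h := two_mul_zeros hF hq hn
    rw [hS] at h
    obtain ⟨h1, h2, -⟩ := pow_facts hm
    have hP : 1 ≤ 2 ^ (m - 1) := Nat.one_le_two_pow
    zify [Nat.one_le_two_pow (n := m)]
    have e1 : ((2 : ℤ) ^ m) = 2 * (2 : ℤ) ^ (m - 1) := by exact_mod_cast h1
    have e2 : ((2 : ℤ) ^ (2 * m)) = 4 * ((2 : ℤ) ^ (m - 1) * (2 : ℤ) ^ (m - 1)) := by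
      exact_mod_cast h2
    rw [e2, e1] at h
    rw [e1]
    refine mul_left_cancel₀ (two_ne_zero (α := ℤ)) ?_
    linear_combination h
  rw [← hz]
  refine le_antisymm (index_le_zeros hB hF hq ?_) (zeros_le_index hB hF hq)
  rw [hS]
  simp

end Cfsg.Agent.Lib.MinIndexSp
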